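import Cfsg.Agent.SylowFixing.Odd
import Cfsg.Agent.Balance.Core

/-!
# `L`-balance at the prime 2 without hypotheses on outer automorphism groups

`le_layer_of_commutator_le_two`: for `p = 2` the Schreier hypothesis of
`CfsgLib.Balance.le_layer_of_commutator_le` can be dropped. A subgroup generated by 2-elements
which centralizes a `R`-invariant 2-subgroup `V` of the layer modulo `O(Y)` is pushed up to a
Sylow 2-subgroup `V`, where Glauberman's lemma applies.
-/

set_option autoImplicit false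
set_option linter.style.haveILetI false

namespace CfsgLib.SylowFixing

open Subgroup
open CfsgLib.Balance (coreIn coreIn_le coreIn_conj_mem le_normalizer_coreIn coprime_coreIn
  eq_one_of_mem_coreIn eq_bot_of_perfect perfect_le_closure_coprime fittingSubgroup_eq_pCore
  coreIn_le_centralizer_pCore)
open CfsgLib.Components (pElems pElems_le mem_pElems pElems_map_eq)
open scoped commutatorElement

variable {X : Type*} [Group X]

theorem pElems_mono {p : ℕ} {A B : Subgroup X} (h : A ≤ B) : pElems p A ≤ pElems p B :=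
  closure_mono fun _ hx => ⟨h hx.1, hx.2⟩

variable [Finite X]

/-- A cover modulo a normal subgroup restricts to the subgroups generated by 2-elements. -/
theorem pElems_le_sup {Y K M O : Subgroup X} [hp : Fact (Nat.Prime 2)] (hKY : K ≤ Y) (hMY : M ≤ Y)
    (hOY : O ≤ Y) (hON : Y ≤ normalizer (O : Set X)) (h : K ≤ M ⊔ O) :
    pElems 2 K ≤ pElems 2 M ⊔ O := by
  haveI : (O.subgroupOf Y).Normal := normal_subgroupOf_of_le_normalizer hON
  set q := QuotientGroup.mk' (O.subgroupOf Y)
  have h1 : (K.subgroupOf Y).map q ≤ (M.subgroupOf Y).map q := by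
    rw [map_le_iff_le_comap, comap_map_eq, QuotientGroup.ker_mk', ← subgroupOf_sup hMY hOY]
    exact comap_mono h
  have h2 : (pElems 2 (K.subgroupOf Y)).map q ≤ (pElems 2 (M.subgroupOf Y)).map q := by
    rw [pElems_map_eq, pElems_map_eq]
    exact pElems_mono h1
  rw [map_le_iff_le_comap, comap_map_eq, QuotientGroup.ker_mk'] at h2
  have h3 := map_mono (f := Y.subtype) h2
  rw [Subgroup.map_sup, pElems_map_eq, pElems_map_eq, subgroupOf_map_subtype, subgroupOf_map_subtype,
    subgroupOf_map_subtype, inf_of_le_left hKY, inf_of_le_left hMY, inf_of_le_left hOY] at h3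
  exact h3

/-- A fixed point of a 2-group in an overgroup of an invariant 2-subgroup. -/
theorem exists_fixed_mod {Q S₁ V : Subgroup X} [hp : Fact (Nat.Prime 2)] (hQ : IsPGroup 2 Q)
    (hVS : V ≤ S₁) (hSQ : S₁ ≤ Q) (hQV : Q ≤ normalizer (V : Set X))
    (hQS : Q ≤ normalizer (S₁ : Set X)) (hne : ¬ S₁ ≤ V) :
    ∃ z ∈ S₁, z ∉ V ∧ ∀ q ∈ Q, q * z * q⁻¹ * z⁻¹ ∈ V := by
  haveI : (V.subgroupOf Q).Normal := normal_subgroupOf_of_le_normalizer hQV
  haveI : (S₁.subgroupOf Q).Normal := normal_subgroupOf_of_le_normalizer hQS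
  set f := QuotientGroup.mk' (V.subgroupOf Q) with hf
  haveI : ((S₁.subgroupOf Q).map f).Normal :=
    (inferInstance : (S₁.subgroupOf Q).Normal).map f (QuotientGroup.mk'_surjective _)
  haveI := (hQ.of_surjective f (QuotientGroup.mk'_surjective _)).isNilpotent
  have hbot : (S₁.subgroupOf Q).map f ≠ ⊥ := by
    intro h
    rw [Subgroup.map_eq_bot_iff, hf, QuotientGroup.ker_mk'] at h
    exact hne fun x hx => h (x := ⟨x, hSQ hx⟩) hx
  obtain ⟨⟨w, hw⟩, hw1⟩ := ne_bot_iff_exists_ne_one.1
    (CfsgLib.Solvable.inf_center_ne_bot hbot)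
  obtain ⟨⟨z, hz, rfl⟩, hc⟩ := mem_inf.1 hw
  refine ⟨z, hz, fun h => hw1 (Subtype.ext ((QuotientGroup.eq_one_iff z).2 h)), fun q hq => ?_⟩
  have h1 : f (⟨q, hq⟩ * z * ⟨q, hq⟩⁻¹ * z⁻¹) = 1 := by
    rw [map_mul, map_mul, map_mul, map_inv, map_inv, mem_center_iff.1 hc (f ⟨q, hq⟩),
      mul_inv_cancel_right, mul_inv_cancel]
  exact mem_subgroupOf.1 ((QuotientGroup.eq_one_iff _).1 h1)

/-- An element of a group normalizing an odd subgroup `A` with `[x, P] ⊆ A` is congruent modulo
`A` to one centralizing the 2-group `P`. -/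
theorem exists_centralizing {P A : Subgroup X} [hp : Fact (Nat.Prime 2)] (hP : IsPGroup 2 P)
    (hA : Odd (Nat.card A)) (hPA : P ≤ normalizer (A : Set X)) {x : X}
    (hx : x ∈ normalizer (A : Set X)) (h : ∀ a ∈ P, ⁅x, a⁆ ∈ A) :
    ∃ c ∈ centralizer (P : Set X), x⁻¹ * c ∈ A := by
  obtain ⟨n, hn⟩ := IsPGroup.iff_card.1 hP
  have := hP.isNilpotent
  refine CfsgLib.Coprime.exists_fixed_mem_coset hPA ?_ (Or.inl inferInstance) fun a ha => ?_
  · rw [hn]
    exact Nat.Coprime.pow_left n (Nat.coprime_two_left.2 hA)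
  · have h1 := (mem_normalizer_iff''.1 hx _).1 (inv_mem (h a ha))
    convert h1 using 1
    simp only [commutatorElement_def]
    group

theorem le_of_isPGroup_ge {p : ℕ} [Fact p.Prime] {H A B : Subgroup X} (hA : IsPGroup p A) (hAB : A ≤ B)
    (hBH : B ≤ H) (hB : IsPGroup p B) (hi : ¬ p ∣ A.relIndex H) : B ≤ A := by
  rw [← relIndex_eq_one]
  obtain ⟨j, hj⟩ := IsPGroup.iff_card.1 hB
  obtain ⟨l, -, hl⟩ := (Nat.dvd_prime_pow Fact.out).1
    (hj ▸ (relIndex_dvd_card A B : A.relIndex B ∣ Nat.card B))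
  rcases Nat.eq_zero_or_pos l with rfl | hl0
  · simpa using hl
  · exact absurd ((hl ▸ dvd_pow_self p hl0.ne').trans
      (Dvd.intro _ (relIndex_mul_relIndex _ B H hAB hBH))) hi

/-- A perfect subgroup generated by 2-elements has no nontrivial image of odd order. -/
theorem hom_eq_one_of_pElems {M : Subgroup X} {H : Type*} [Group H] [Finite H]
    (hM : pElems 2 M = M) (φ : M →* H) (hodd : Odd (Nat.card φ.range)) : ∀ d : M, φ d = 1 := by
  intro d
  have hle : pElems 2 M ≤ φ.ker.map M.subtype := by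
    refine (closure_le _).2 ?_
    rintro x ⟨hx, k, hk⟩
    refine ⟨⟨x, hx⟩, ?_, rfl⟩
    have h1 : (φ ⟨x, hx⟩) ^ 2 ^ k = 1 := by
      rw [← map_pow, show (⟨x, hx⟩ : M) ^ 2 ^ k = 1 from Subtype.ext hk, map_one]
    rw [SetLike.mem_coe, MonoidHom.mem_ker, ← orderOf_eq_one_iff]
    exact Nat.eq_one_of_dvd_coprimes ((Nat.coprime_two_right.2 hodd).pow_right k)
      (φ.range.orderOf_dvd_natCard ⟨_, rfl⟩) (orderOf_dvd_of_pow_eq_one h1)
  rw [hM] at hle
  obtain ⟨e, he, hed⟩ := hle d.2
  rwa [← Subtype.ext hed, ← MonoidHom.mem_ker]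

variable {R Y : Subgroup X}

/-- `L`-balance for `p = 2`. -/
theorem le_layer_of_commutator_le_two [hp : Fact (Nat.Prime 2)] (hX : Cfsg.pPrimeCore 2 X = ⊥)
    (hR : IsPGroup 2 R) (hCY : centralizer (R : Set X) ≤ Y)
    (hO : coreIn 2 Y ≤ centralizer (R : Set X)) {K : Subgroup X}
    (hKR : K ≤ centralizer (R : Set X)) (hKperf : ⁅K, K⁆ = K) (hK2 : pElems 2 K = K)
    (hKU : ⁅K, Cfsg.pCore 2 X ⊓ centralizer (R : Set X)⁆ ≤ coreIn 2 Y)
    (hKM : ⁅K, Cfsg.layer X ⊓ centralizer (R : Set X)⁆ ≤ coreIn 2 Y) :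
    K ≤ Cfsg.layer X := by
  set U := Cfsg.pCore 2 X
  set L := Cfsg.layer X
  set O := coreIn 2 Y with hOdef
  have hUn : U.Normal := CfsgLib.Solvable.pCore_normal (G := X) 2
  haveI hLn : L.Normal := inferInstance
  have hOodd : Odd (Nat.card O) := Nat.coprime_two_right.1 (coprime_coreIn Y)
  have hgen := perfect_le_closure_coprime (p := 2) hKperf
  have hKC : K ≤ centralizer (U : Set X) := by
    refine hgen.trans ((closure_le _).mpr ?_)
    rintro x ⟨hx, hcop⟩
    refine CfsgLib.Coprime.le_centralizer_of_inf_centralizer_le (P := R) (Q := zpowers x) hR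
      (by rwa [Nat.card_zpowers]) (CfsgLib.PLocal.isPGroup_pCore 2 X)
      (le_centralizer_iff.mp (zpowers_le.mpr (hKR hx))) le_normalizer_of_normal
      le_normalizer_of_normal ?_ (mem_zpowers x)
    intro u hu
    have h1 := hKU (commutator_mem_commutator hx hu)
    have h2 : ⁅x, u⁆ ∈ U := mul_mem (hUn.conj_mem u hu.1 x) (inv_mem hu.1)
    obtain ⟨j, hj⟩ := CfsgLib.PLocal.isPGroup_pCore 2 X ⟨_, h2⟩
    have h3 := eq_one_of_mem_coreIn h1 (k := j) (congrArg Subtype.val hj)
    rintro _ ⟨i, rfl⟩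
    exact ((show Commute x u from commutatorElement_eq_one_iff_commute.mp h3).zpow_left i).eq
  have hOU : O ≤ centralizer (U : Set X) := coreIn_le_centralizer_pCore hR hCY hO
  set H := K ⊔ O with hH
  have hHR : H ≤ centralizer (R : Set X) := sup_le hKR hO
  have hHC : H ≤ centralizer (U : Set X) := sup_le hKC hOU
  have hHY : H ≤ Y := hHR.trans hCY
  have hKY : K ≤ Y := le_sup_left.trans hHY
  have hNO : Y ≤ normalizer (O : Set X) := le_normalizer_coreIn Y
  have hOconj : ∀ y ∈ Y, ∀ o ∈ O, y * o * y⁻¹ ∈ O := fun y hy o ho => coreIn_conj_mem hy ho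
  -- `H` centralizes `L ∩ C(R)` modulo `O`
  have hHM : ∀ h ∈ H, ∀ x ∈ L ⊓ centralizer (R : Set X), ⁅h, x⁆ ∈ O := by
    intro h hh x hx
    have hxY : x ∈ Y := hCY hx.2
    obtain ⟨k, hk, o, ho, rfl⟩ : ∃ k ∈ K, ∃ o ∈ O, k * o = h := by
      rw [hH, ← SetLike.mem_coe, coe_mul_of_left_le_normalizer_right K O (hKY.trans hNO)] at hh
      exact hh
    rw [show ⁅k * o, x⁆ = k * (o * (x * o⁻¹ * x⁻¹)) * k⁻¹ * ⁅k, x⁆ by
      simp only [commutatorElement_def]; group]
    exact mul_mem (hOconj k (hKY hk) _ (mul_mem ho (hOconj x hxY _ (inv_mem ho))))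
      (hKM (commutator_mem_commutator hk hx))
  have hLU : L ≤ centralizer (U : Set X) := by
    have := CfsgLib.Components.layer_le_centralizer_fittingSubgroup (G := X)
    rwa [fittingSubgroup_eq_pCore hX] at this
  -- a Sylow subgroup of `L ∩ C(R)`
  set D₀ := L ⊓ centralizer (R : Set X) with hD₀
  obtain ⟨T⟩ : Nonempty (Sylow 2 D₀) := inferInstance
  set T₀ := (T : Subgroup D₀).map D₀.subtype with hT₀
  have hT₀D : T₀ ≤ D₀ := map_subtype_le _
  have hT₀2 : IsPGroup 2 T₀ := T.isPGroup'.map _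
  have hT₀i : ¬ 2 ∣ T₀.relIndex D₀ := by
    have : T₀.subgroupOf D₀ = (T : Subgroup D₀) := by
      rw [hT₀, subgroupOf, comap_map_eq_self_of_injective D₀.subtype_injective]
    rw [relIndex, this]
    exact T.not_dvd_index
  -- the pairs `(V, M)`
  have mkM : ∀ {V M : Subgroup X}, M ≤ H → M ≤ centralizer (V : Set X) → K ≤ M ⊔ O →
      ∃ M' : Subgroup X, M' ≤ H ∧ M' ≤ centralizer (V : Set X) ∧ K ≤ M' ⊔ O ∧ ⁅M', M'⁆ = M' ∧
        pElems 2 M' = M' := by
    intro V M hMH hMV hKM'
    obtain ⟨M', ⟨h1, h2, h3⟩, hmin⟩ := Set.Finite.exists_minimalFor id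
      {M' : Subgroup X | M' ≤ H ∧ M' ≤ centralizer (V : Set X) ∧ K ≤ M' ⊔ O} (Set.toFinite _)
      ⟨M, hMH, hMV, hKM'⟩
    have hmin' : ∀ N : Subgroup X, N ≤ M' → K ≤ N ⊔ O → M' ≤ N := fun N hN hKN =>
      hmin ⟨hN.trans h1, hN.trans h2, hKN⟩ hN
    have hM'Y : M' ≤ Y := h1.trans hHY
    have hle1 : ⁅M', M'⁆ ≤ M' := commutator_le.2 fun a ha b hb =>
      mul_mem (mul_mem (mul_mem ha hb) (inv_mem ha)) (inv_mem hb)
    refine ⟨M', h1, h2, h3, le_antisymm hle1 (hmin' _ hle1 ?_),
      le_antisymm (pElems_le M') (hmin' _ (pElems_le M') ?_)⟩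
    · haveI : (O.subgroupOf Y).Normal := normal_subgroupOf_of_le_normalizer hNO
      set q := QuotientGroup.mk' (O.subgroupOf Y)
      have hqK : (K.subgroupOf Y).map q ≤ (M'.subgroupOf Y).map q := by
        rw [map_le_iff_le_comap, comap_map_eq, QuotientGroup.ker_mk',
          ← subgroupOf_sup hM'Y (coreIn_le Y)]
        exact comap_mono h3
      have hq2 : ⁅(K.subgroupOf Y).map q, (K.subgroupOf Y).map q⁆ ≤
          ⁅(M'.subgroupOf Y).map q, (M'.subgroupOf Y).map q⁆ := commutator_mono hqK hqK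
      rw [← map_commutator, ← map_commutator, map_le_iff_le_comap, comap_map_eq,
        QuotientGroup.ker_mk'] at hq2
      have h4 := map_mono (f := Y.subtype) hq2
      rw [Subgroup.map_sup, map_commutator, map_commutator, subgroupOf_map_subtype,
        subgroupOf_map_subtype, subgroupOf_map_subtype, inf_of_le_left hKY, inf_of_le_left hM'Y,
        inf_of_le_left (coreIn_le Y), hKperf] at h4
      exact h4
    · exact hK2.ge.trans (pElems_le_sup hKY hM'Y (coreIn_le Y) hNO h3)
  let good : Subgroup X → Prop := fun V => T₀ ≤ V ∧ V ≤ L ∧ IsPGroup 2 V ∧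
    R ≤ normalizer (V : Set X) ∧ ∃ M : Subgroup X, M ≤ H ∧ M ≤ centralizer (V : Set X) ∧ K ≤ M ⊔ O ∧
      ⁅M, M⁆ = M ∧ pElems 2 M = M
  have hstart : good T₀ := by
    refine ⟨le_rfl, hT₀D.trans inf_le_left, hT₀2, ?_, mkM (M := H ⊓ centralizer (T₀ : Set X))
      inf_le_left inf_le_right fun k hk => ?_⟩
    · exact (le_centralizer_iff.1 (hT₀D.trans inf_le_right)).trans (centralizer_le_normalizer _)
    · have hT₀N : T₀ ≤ normalizer (O : Set X) := ((hT₀D.trans inf_le_right).trans hCY).trans hNO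
      obtain ⟨c, hc, hkc⟩ := exists_centralizing hT₀2 hOodd hT₀N (x := k) (hNO (hKY hk))
        fun a ha => hHM k (mem_sup_left hk) a (hT₀D ha)
      have hcH : c ∈ H := by
        rw [show c = k * (k⁻¹ * c) by group]
        exact mul_mem (mem_sup_left hk) (mem_sup_right hkc)
      rw [show k = c * (k⁻¹ * c)⁻¹ by group]
      exact mul_mem_sup ⟨hcH, hc⟩ (inv_mem hkc)
  obtain ⟨V, ⟨hTV, hVL, hV2, hRV, M, hMH, hMV, hKM', hMperf, hM2⟩, hmax⟩ :=
    Set.Finite.exists_maximalFor id {V : Subgroup X | good V} (Set.toFinite _) ⟨T₀, hstart⟩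
  have hMR : M ≤ centralizer (R : Set X) := hMH.trans hHR
  -- `V` is a Sylow subgroup of `L`
  have hVsyl : ¬ 2 ∣ V.relIndex L := by
    intro hdvd
    obtain ⟨S, hS⟩ := (hV2.comap_subtype (K := L)).exists_le_sylow
    set S' := (S : Subgroup L).map L.subtype with hS'
    have hS'2 : IsPGroup 2 S' := S.isPGroup'.map _
    have hVS' : V ≤ S' := fun v hv => ⟨⟨v, hVL hv⟩, hS (mem_subgroupOf.2 hv), rfl⟩
    have hlt : V < S' := lt_of_le_of_ne hVS' fun he => S.not_dvd_index (by
      have : (S : Subgroup L) = V.subgroupOf L := by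
        rw [he, hS', subgroupOf, comap_map_eq_self_of_injective L.subtype_injective]
      rw [this]; exact hdvd)
    set NL := L ⊓ normalizer (V : Set X) with hNL
    have hT : V < S' ⊓ normalizer (V : Set X) := Transfer.lt_inf_normalizer hS'2 hlt
    have hVNL : ¬ ¬ 2 ∣ V.relIndex NL := fun hn => hT.not_ge
      (le_of_isPGroup_ge hV2 hT.le (inf_le_inf_right _ (map_subtype_le _))
        (hS'2.to_le inf_le_left) hn)
    set G₁ := NL ⊔ R with hG₁
    have hVR2 : IsPGroup 2 ((V ⊔ R).subgroupOf G₁) := by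
      refine IsPGroup.comap_subtype ?_
      rw [sup_comm]
      exact hR.to_sup_of_normal_right' hV2 hRV
    obtain ⟨W, hW⟩ := hVR2.exists_le_sylow
    set Q := (W : Subgroup G₁).map G₁.subtype with hQdef
    have hQ2 : IsPGroup 2 Q := W.isPGroup'.map _
    have hQG : Q ≤ G₁ := map_subtype_le _
    have hG₁N : G₁ ≤ normalizer (V : Set X) := sup_le inf_le_right hRV
    have hVRQ : V ⊔ R ≤ Q := fun v hv =>
      ⟨⟨v, (sup_le_sup_right (le_inf hVL le_normalizer) R : V ⊔ R ≤ G₁) hv⟩, hW (mem_subgroupOf.2 hv),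
        rfl⟩
    have hQS : Q ≤ normalizer ((Q ⊓ L : Subgroup X) : Set X) :=
      (le_inf le_normalizer le_normalizer_of_normal).trans inf_normalizer_le_normalizer_inf
    have hne : ¬ Q ⊓ L ≤ V := by
      intro hle
      apply hVNL
      haveI : (NL.subgroupOf G₁).Normal := normal_subgroupOf_of_le_normalizer
        ((le_inf le_normalizer_of_normal (hG₁N.trans le_normalizer)).trans
          inf_normalizer_le_normalizer_inf)
      have h1 := Transfer.not_dvd_relIndex_of_normal W (NL.subgroupOf G₁)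
      have h2 : (W : Subgroup G₁) = Q.subgroupOf G₁ := by
        rw [hQdef, subgroupOf, comap_map_eq_self_of_injective G₁.subtype_injective]
      rw [h2, relIndex_subgroupOf le_sup_left] at h1
      have h3 : Q ⊓ NL = V := le_antisymm
        ((inf_le_inf_left _ inf_le_left).trans hle)
        (le_inf (le_sup_left.trans hVRQ) (le_inf hVL le_normalizer))
      rwa [← inf_relIndex_right, h3] at h1
    obtain ⟨z, hzS, hzV, hz⟩ := exists_fixed_mod hQ2 (le_inf (le_sup_left.trans hVRQ) hVL)
      inf_le_left (hQG.trans hG₁N) hQS hne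
    have hzN : z ∈ normalizer (V : Set X) := hG₁N (hQG hzS.1)
    -- the group `D`
    set D := L ⊓ centralizer (R : Set X) ⊓ centralizer (V : Set X) with hD
    set Z := T₀ ⊓ centralizer (V : Set X) with hZ
    have hZD : Z ≤ D := inf_le_inf_right _ hT₀D
    have hDY : D ≤ Y := (inf_le_left.trans inf_le_right).trans hCY
    have hDT : D ≤ centralizer (Z : Set X) := inf_le_right.trans
      (centralizer_le (SetLike.coe_subset_coe.2 (inf_le_left.trans hTV)))
    have hDodd : ¬ 2 ∣ Z.relIndex D := by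
      intro hd
      obtain ⟨P, hP⟩ := ((hT₀2.to_le (inf_le_left : Z ≤ T₀)).comap_subtype (K := D)).exists_le_sylow
      set P' := (P : Subgroup D).map D.subtype with hP'
      have hP'D : P' ≤ D := map_subtype_le _
      have hPT : P' ⊔ T₀ ≤ D₀ := sup_le (hP'D.trans inf_le_left) hT₀D
      have hTN : T₀ ≤ normalizer (P' : Set X) :=
        (le_centralizer_iff.1 ((hP'D.trans inf_le_right).trans
          (centralizer_le (SetLike.coe_subset_coe.2 hTV)))).trans (centralizer_le_normalizer _)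
      have h2 : IsPGroup 2 (P' ⊔ T₀ : Subgroup X) := by
        rw [sup_comm]
        exact hT₀2.to_sup_of_normal_right' (P.isPGroup'.map _) hTN
      have h3 := le_sup_left.trans (le_of_isPGroup_ge hT₀2 le_sup_right hPT h2 hT₀i)
      refine P.not_dvd_index ?_
      have : (P : Subgroup D) = Z.subgroupOf D := le_antisymm
        (fun x hx => mem_subgroupOf.2 (mem_inf.2 ⟨h3 ⟨x, hx, rfl⟩, (mem_inf.1 x.2).2⟩)) hP
      rw [this]
      exact hd
    obtain ⟨K₁, hK₁n, hK₁Z, hK₁top, -⟩ := exists_odd_complement hZD hDT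
      (hT₀2.to_le inf_le_left) hDodd
    have hK₁odd : Odd (Nat.card K₁) := by
      have hcompl : IsComplement' K₁ (Z.subgroupOf D) :=
        isComplement'_of_disjoint_and_mul_eq_univ hK₁Z (by rw [← normal_mul, hK₁top]; rfl)
      rw [← hcompl.index_eq_card]
      exact Nat.not_even_iff_odd.1 fun he => hDodd (even_iff_two_dvd.1 he)
    have hDD : ⁅(⊤ : Subgroup D), (⊤ : Subgroup D)⁆ ≤ K₁ := by
      refine commutator_le.2 fun a _ b _ => ?_
      rw [← QuotientGroup.eq_one_iff, ← QuotientGroup.mk'_apply, map_commutatorElement,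
        commutatorElement_eq_one_iff_mul_comm]
      obtain ⟨k, hk, y, hy, rfl⟩ := mem_sup_of_normal_left.1 (hK₁top ▸ mem_top a)
      have hk1 : QuotientGroup.mk' K₁ k = 1 := (QuotientGroup.eq_one_iff _).2 hk
      rw [map_mul, hk1, one_mul, ← map_mul, ← map_mul]
      exact congrArg _ (Subtype.ext (mem_centralizer_iff.1 (hDT b.2) (y : X) (mem_subgroupOf.1 hy)))
    -- commutators with `z^i` lie in `O`
    have hcomm : ∀ w ∈ zpowers z, ∀ d ∈ M, ⁅d, w⁆ ∈ O ⊓ (L ⊓ centralizer (V : Set X)) := by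
      intro w hw
      have hwN : w ∈ normalizer (V : Set X) := zpowers_le.2 hzN hw
      have hwL : w ∈ L := zpowers_le.2 (show z ∈ L from hzS.2) hw
      have hwR : ∀ r ∈ R, r * w * r⁻¹ * w⁻¹ ∈ V := by
        intro r hr
        obtain ⟨i, rfl⟩ := mem_zpowers_iff.1 hw
        have hrQ : r ∈ Q := hVRQ (mem_sup_right hr)
        have hN : Q ⊔ zpowers z ≤ normalizer (V : Set X) :=
          sup_le (hQG.trans hG₁N) (zpowers_le.2 hzN)
        haveI := normal_subgroupOf_of_le_normalizer hN
        set f := QuotientGroup.mk' (V.subgroupOf (Q ⊔ zpowers z))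
        set r' : (Q ⊔ zpowers z : Subgroup X) := ⟨r, mem_sup_left hrQ⟩
        set z' : (Q ⊔ zpowers z : Subgroup X) := ⟨z, mem_sup_right (mem_zpowers z)⟩
        have h1 : f r' * f z' * (f r')⁻¹ = f z' := by
          have h := hz r hrQ
          rw [← mul_inv_eq_one, ← map_inv, ← map_inv, ← map_mul, ← map_mul, ← map_mul]
          exact (QuotientGroup.eq_one_iff _).2 (mem_subgroupOf.2 h)
        have h2 : f (r' * z' ^ i * r'⁻¹ * (z' ^ i)⁻¹) = 1 := by
          rw [map_mul, map_mul, map_mul, map_inv, map_inv, map_zpow, ← conj_zpow, h1, mul_inv_cancel]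
        simpa [r', z'] using mem_subgroupOf.1 ((QuotientGroup.eq_one_iff _).1 h2)
      have hmem : ∀ d ∈ M, ⁅d, w⁆ ∈ D := by
        intro d hd
        have hdC : d ∈ centralizer (V : Set X) := hMV hd
        have h1 : ⁅d, w⁆ ∈ L := by
          rw [commutatorElement_def]
          exact mul_mem (hLn.conj_mem w hwL d) (inv_mem hwL)
        have h2 : ⁅d, w⁆ ∈ centralizer (V : Set X) := by
          rw [commutatorElement_def, show d * w * d⁻¹ * w⁻¹ = d * (w * d⁻¹ * w⁻¹) by group]
          exact mul_mem hdC ((mem_normalizer_iff.1 (le_normalizer_cent V hwN) _).1 (inv_mem hdC))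
        refine ⟨⟨h1, mem_centralizer_iff.2 fun r hr => ?_⟩, h2⟩
        have hrd := mem_centralizer_iff.1 (hMR hd) r hr
        have hrd' : r * d * r⁻¹ = d := by rw [hrd, mul_inv_cancel_right]
        set v := r * w * r⁻¹ * w⁻¹ with hv
        have hdv := mem_centralizer_iff.1 hdC v (hwR r hr)
        have key : r * ⁅d, w⁆ * r⁻¹ = ⁅d, w⁆ := by
          calc r * ⁅d, w⁆ * r⁻¹ = (r * d * r⁻¹) * (v * w) * (r * d * r⁻¹)⁻¹ * (v * w)⁻¹ := by
                simp only [hv, commutatorElement_def]; group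
            _ = (d * v) * w * d⁻¹ * (v * w)⁻¹ := by rw [hrd']; group
            _ = v * ⁅d, w⁆ * v⁻¹ := by rw [← hdv, commutatorElement_def]; group
            _ = ⁅d, w⁆ := by
              rw [mem_centralizer_iff.1 h2 v (hwR r hr), mul_inv_cancel_right]
        calc r * ⁅d, w⁆ = r * ⁅d, w⁆ * r⁻¹ * r := by group
          _ = _ := by rw [key]
      -- modulo `O`
      haveI : (O.subgroupOf Y).Normal := normal_subgroupOf_of_le_normalizer hNO
      set q := QuotientGroup.mk' (O.subgroupOf Y)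
      let ι : D →* Y ⧸ O.subgroupOf Y := q.comp (inclusion hDY)
      have hMD : ∀ d ∈ M, ∀ x : D, ∀ hd : d ∈ Y, Commute (q ⟨d, hd⟩) (ι x) := by
        intro d hd x hdY
        apply commutatorElement_eq_one_iff_commute.1
        rw [MonoidHom.comp_apply, ← map_commutatorElement]
        exact (QuotientGroup.eq_one_iff _).2
          (mem_subgroupOf.2 (hHM d (hMH hd) x ⟨x.2.1.1, x.2.1.2⟩))
      let φ : M →* Y ⧸ O.subgroupOf Y :=
        { toFun := fun d => (ι ⟨⁅(d : X), w⁆, hmem d d.2⟩)⁻¹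
          map_one' := by
            rw [inv_eq_one, ← map_one ι]
            exact congrArg _ (Subtype.ext (by simp))
          map_mul' := fun a b => by
            have hc := hMD a a.2 ⟨⁅(b : X), w⁆, hmem b b.2⟩ (hHY (hMH a.2))
            rw [← mul_inv_rev, inv_inj]
            show q _ = _ * _
            rw [show (inclusion hDY (⟨⁅((a * b : M) : X), w⁆, hmem _ (a * b).2⟩ : D) : Y) =
              (⟨a, hHY (hMH a.2)⟩ : Y) * inclusion hDY ⟨⁅(b : X), w⁆, hmem b b.2⟩ *
                (⟨a, hHY (hMH a.2)⟩ : Y)⁻¹ * inclusion hDY ⟨⁅(a : X), w⁆, hmem a a.2⟩ from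
              Subtype.ext (by simp [commutator_mul_left]), map_mul, map_mul, map_mul, map_inv]
            congr 1
            exact mul_inv_eq_iff_eq_mul.2 hc.eq }
      have hMperf' : ⁅(⊤ : Subgroup M), (⊤ : Subgroup M)⁆ = ⊤ := by
        rw [← map_subtype_inj, map_commutator, ← MonoidHom.range_eq_map, range_subtype, hMperf]
      have hrange : φ.range ≤ K₁.map ι := by
        rw [MonoidHom.range_eq_map, ← hMperf', map_commutator]
        have hle : (⊤ : Subgroup M).map φ ≤ (⊤ : Subgroup D).map ι := by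
          rintro _ ⟨d, -, rfl⟩
          exact inv_mem (mem_map_of_mem ι (mem_top _))
        exact (commutator_mono hle hle).trans ((map_commutator _ _ ι).ge.trans (map_mono hDD))
      have hodd : Odd (Nat.card φ.range) :=
        hK₁odd.of_dvd_nat ((card_dvd_of_le hrange).trans (card_map_dvd _ _))
      intro d hd
      have h0 := hom_eq_one_of_pElems hM2 φ hodd ⟨d, hd⟩
      simp only [φ, MonoidHom.coe_mk, OneHom.coe_mk, inv_eq_one, ι, MonoidHom.comp_apply] at h0
      exact ⟨mem_subgroupOf.1 ((QuotientGroup.eq_one_iff _).1 h0), (hmem d hd).1.1, (hmem d hd).2⟩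
    -- enlarge `V`
    set A := ⁅M, zpowers z⁆ with hA
    have hAle : A ≤ O ⊓ (L ⊓ centralizer (V : Set X)) :=
      commutator_le.2 fun d hd w hw => hcomm w hw d hd
    have hAodd : Odd (Nat.card A) := hOodd.of_dvd_nat (card_dvd_of_le (hAle.trans inf_le_left))
    set V' := V ⊔ zpowers z with hV'
    have hV'Q : V' ≤ Q := sup_le (le_sup_left.trans hVRQ) (zpowers_le.2 hzS.1)
    have hV'2 : IsPGroup 2 V' := hQ2.to_le hV'Q
    have hV'L : V' ≤ L := sup_le hVL (zpowers_le.2 hzS.2)
    have hV'N : V' ≤ normalizer (A : Set X) := sup_le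
      ((le_centralizer_iff.1 (hAle.trans (inf_le_right.trans inf_le_right))).trans
        (centralizer_le_normalizer _))
      (normalizer_commutator_ge_right M (zpowers z))
    have hRV' : R ≤ normalizer (V' : Set X) := by
      intro r hr
      rw [mem_normalizer_iff_map_conj_eq]
      refine eq_of_le_of_card_ge ?_ (card_map_of_injective (MulAut.conj r).injective).ge
      rw [hV', Subgroup.map_sup]
      refine sup_le ((mem_normalizer_iff_map_conj_eq.1 (hRV hr)).le.trans le_sup_left) ?_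
      rw [MonoidHom.map_zpowers, zpowers_le]
      have h := hz r (hVRQ (mem_sup_right hr))
      show r * z * r⁻¹ ∈ V ⊔ zpowers z
      rw [show r * z * r⁻¹ = (r * z * r⁻¹ * z⁻¹) * z by group]
      exact mul_mem_sup h (mem_zpowers z)
    set M₁ := H ⊓ centralizer (V' : Set X) with hM₁
    have hAH : A ≤ O := hAle.trans inf_le_left
    have hKM₁ : K ≤ M₁ ⊔ O := by
      refine hKM'.trans (sup_le (fun d hd => ?_) le_sup_right)
      have hdA : d ∈ normalizer (A : Set X) := normalizer_commutator_ge_left M (zpowers z) hd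
      obtain ⟨c, hc, hdc⟩ := exists_centralizing hV'2 hAodd hV'N hdA fun a ha => by
        have key : ∀ a, a ∈ V' → ⁅d, a⁆ ∈ A := by
          intro a ha
          rw [hV', ← SetLike.mem_coe, coe_mul_of_right_le_normalizer_left V (zpowers z)
            (zpowers_le.2 hzN)] at ha
          obtain ⟨v, hv, w, hw, rfl⟩ := ha
          have h1 : v * ⁅d, w⁆ * v⁻¹ = ⁅d, w⁆ := by
            rw [mem_centralizer_iff.1 (hAle (commutator_mem_commutator hd hw)).2.2 v hv,
              mul_inv_cancel_right]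
          have h2 : ⁅d, v⁆ = 1 := commutatorElement_eq_one_iff_mul_comm.2
            (mem_centralizer_iff.1 (hMV hd) v hv).symm
          rw [show ⁅d, v * w⁆ = ⁅d, v⁆ * (v * ⁅d, w⁆ * v⁻¹) by
            simp only [commutatorElement_def]; group, h1, h2, one_mul]
          exact commutator_mem_commutator hd hw
        exact key a ha
      have hcH : c ∈ H := by
        rw [show c = d * (d⁻¹ * c) by group]
        exact mul_mem (hMH hd) (mem_sup_right (hAH hdc))
      rw [show d = c * (d⁻¹ * c)⁻¹ by group]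
      exact mul_mem_sup ⟨hcH, hc⟩ (inv_mem (hAH hdc))
    have hgood : good V' := ⟨hTV.trans le_sup_left, hV'L, hV'2, hRV',
      mkM (M := M₁) inf_le_left inf_le_right hKM₁⟩
    exact hzV (hmax hgood le_sup_left (mem_sup_right (mem_zpowers z)))
  -- Glauberman's lemma
  have hML : M ≤ centralizer (L : Set X) := by
    rw [← hM2]
    refine (closure_le _).2 ?_
    rintro x ⟨hx, k, hk⟩
    refine mem_centralizer_iff.2 fun g hg => ?_
    refine (commute_of_pow_two_pow (G := L) (S := V) (W := M) (fun N hN hLN hodd => ?_) hVL hV2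
      hVsyl hMV k x (hMperf.ge hx) hk g hg).eq.symm
    have hsn : N.IsSubnormal := IsSubnormal.step _ L hN hLn.isSubnormal
      (normal_subgroupOf_of_le_normalizer hLN)
    exact eq_bot_iff.2 (hX ▸ CfsgLib.PLocal.le_pPrimeCore_of_isSubnormal hsn
      (Nat.coprime_two_right.2 hodd))
  have hMF : M ≤ U := by
    intro x hx
    have hc : x ∈ centralizer (Cfsg.generalizedFittingSubgroup X : Set X) := by
      rw [Cfsg.generalizedFittingSubgroup, fittingSubgroup_eq_pCore hX]
      refine le_centralizer_iff.mp (sup_le (le_centralizer_iff.mp ?_) (le_centralizer_iff.mp ?_))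
        (mem_zpowers x)
      · first
          | exact zpowers_le.2 (hML hx)
          | exact zpowers_le.2 (hHC (hMH hx))
      · first
          | exact zpowers_le.2 (hML hx)
          | exact zpowers_le.2 (hHC (hMH hx))
    have hu := CfsgLib.Components.centralizer_generalizedFitting_le hc
    rwa [fittingSubgroup_eq_pCore hX] at hu
  have hMsol : Group.IsSolvable M :=
    have := ((CfsgLib.PLocal.isPGroup_pCore 2 X).to_le hMF).isNilpotent
    inferInstance
  rw [eq_bot_of_perfect hMperf hMsol, bot_sup_eq] at hKM'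
  refine le_of_eq_of_le (?_ : K = ⊥) bot_le
  rw [← hK2, eq_bot_iff]
  refine (closure_le _).2 ?_
  rintro x ⟨hx, k, hk⟩
  exact mem_bot.2 (eq_one_of_mem_coreIn (hKM' hx) hk)

end CfsgLib.SylowFixing
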