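import Cfsg.Agent.Balance.Local
import Cfsg.Agent.SylowFixing.TwoBalance

/-!
# `L`-balance for 2-local subgroups, unconditionally
-/

set_option autoImplicit false

namespace CfsgLib.Balance

open Subgroup
open scoped commutatorElement
open CfsgLib.Components (IsPComponent.eq_pComponentOver IsPComponent.pElems_eq_self
  IsPComponent.commutator_eq_self IsComponent.commutator_eq_bot_of_isSolvable
  IsComponent.le_or_commutator_eq_bot_of_normal)

variable {X : Type*} [Group X] [Finite X] [Fact (Nat.Prime 2)] {R Y : Subgroup X}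


/-- **`L_2`-balance**, without hypotheses on outer automorphism groups. -/
theorem map_subtype_pComponent_le_pLayer_two
    (hR : IsPGroup 2 R) (hCY : centralizer (R : Set X) ≤ Y) (hYN : Y ≤ normalizer (R : Set X))
    (hY : R ≤ Y ∨ Y = centralizer (R : Set X)) {K : Subgroup Y} (hK : Cfsg.IsPComponent 2 K) :
    K.map Y.subtype ≤ Cfsg.pLayer 2 X := by
  set N₀ := Cfsg.pPrimeCore 2 X with hN₀
  set f := QuotientGroup.mk' N₀ with hf
  set O := Cfsg.pPrimeCore 2 Y with hOdef
  have hKR := isPComponent_le_centralizer hR hYN hY hK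
  have hCn : ((centralizer (R : Set X)).subgroupOf Y).Normal :=
    normal_subgroupOf_of_le_normalizer (map_subtype_le_normalizer_centralizer hYN)
  have hN0Y : N₀.subgroupOf Y ≤ O := CfsgLib.PLocal.pPrimeCore_subgroupOf_le Y
  have hcent := CfsgLib.PLocal.centralizer_map_mk'_eq N₀ (CfsgLib.PLocal.coprime_card_pPrimeCore 2 X) hR
  -- lifting a commutator statement
  have lift : ∀ (W : Subgroup (X ⧸ N₀)),
      ⁅K, (W.comap f).subgroupOf Y ⊓ (centralizer (R : Set X)).subgroupOf Y⁆ ≤ O →
      ⁅(K.map Y.subtype).map f, W ⊓ centralizer ((R.map f : Subgroup (X ⧸ N₀)) : Set (X ⧸ N₀))⁆ ≤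
        coreIn 2 (Y.map f) := by
    intro W h
    refine commutator_le.mpr ?_
    rintro _ ⟨_, ⟨k, hk, rfl⟩, rfl⟩ w ⟨hwW, hwC⟩
    rw [hcent] at hwC
    obtain ⟨x, hx, rfl⟩ := hwC
    rw [← map_commutatorElement]
    refine map_coreIn_le Y ⟨⁅(k : X), x⁆, ⟨⁅k, (⟨x, hCY hx⟩ : Y)⁆, ?_, rfl⟩, rfl⟩
    exact h (commutator_mem_commutator hk ⟨mem_subgroupOf.mpr hwW, mem_subgroupOf.mpr hx⟩)
  set U := Cfsg.pCore 2 (X ⧸ N₀) with hUdef
  set L := Cfsg.layer (X ⧸ N₀) with hLdef
  have hKU : ⁅K, (U.comap f).subgroupOf Y ⊓ (centralizer (R : Set X)).subgroupOf Y⁆ ≤ O := by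
    have : U.Normal := CfsgLib.Solvable.pCore_normal (G := X ⧸ N₀) 2
    refine commutator_le_core_of_isSolvable hK ?_
    have hp : IsPGroup 2 (((U.comap f).subgroupOf Y ⊓ (centralizer (R : Set X)).subgroupOf Y).map
        (QuotientGroup.mk' O)) := by
      rintro ⟨_, y, hy, rfl⟩
      obtain ⟨k, hk⟩ := CfsgLib.PLocal.isPGroup_pCore 2 (X ⧸ N₀) ⟨f y, hy.1⟩
      refine ⟨k, Subtype.ext ?_⟩
      simp only [SubmonoidClass.coe_pow, OneMemClass.coe_one]
      rw [← map_pow]
      refine (QuotientGroup.eq_one_iff _).mpr (hN0Y (mem_subgroupOf.mpr ?_))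
      refine (QuotientGroup.eq_one_iff _).mp ?_
      have h2 : f (y : X) ^ 2 ^ k = 1 := congrArg Subtype.val hk
      exact h2
    have := hp.isNilpotent
    infer_instance
  have hgoal : K.map Y.subtype ≤ L.comap f := by
    have hmn := Subgroup.Normal.map (inferInstance :
        ((L.comap f).subgroupOf Y ⊓ (centralizer (R : Set X)).subgroupOf Y).Normal)
        (QuotientGroup.mk' O) (QuotientGroup.mk'_surjective _)
    rcases IsComponent.le_or_commutator_eq_bot_of_normal hK.2.1
      (((L.comap f).subgroupOf Y ⊓ (centralizer (R : Set X)).subgroupOf Y).map (QuotientGroup.mk' O))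
      with h | h
    · rw [map_le_iff_le_comap, comap_map_eq, QuotientGroup.ker_mk'] at h
      have := CfsgLib.Components.pElems_le_of_isSubnormal (Normal.isSubnormal (inferInstance :
          ((L.comap f).subgroupOf Y ⊓ (centralizer (R : Set X)).subgroupOf Y).Normal))
        (CfsgLib.PLocal.coprime_card_pPrimeCore 2 Y) h
      rw [IsPComponent.pElems_eq_self hK] at this
      exact map_le_iff_le_comap.mpr (this.trans inf_le_left)
    · rw [← map_commutator, Subgroup.map_eq_bot_iff, QuotientGroup.ker_mk'] at h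
      rw [← map_le_iff_le_comap]
      refine CfsgLib.SylowFixing.le_layer_of_commutator_le_two (R := R.map f) (Y := Y.map f)
        (CfsgLib.PLocal.pPrimeCore_quotient_pPrimeCore_eq_bot 2 X) (hR.map _)
        (centralizer_map_le hR hCY) (coreIn_map_le_centralizer hR hYN hY) ?_ ?_ ?_ (lift U hKU) (lift L h)
      · rw [hcent]; exact map_mono hKR
      · rw [← map_commutator, ← map_commutator, IsPComponent.commutator_eq_self hK]
      · rw [← CfsgLib.Components.pElems_map_eq, ← CfsgLib.Components.pElems_map_eq,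
          IsPComponent.pElems_eq_self hK]
  rw [hLdef, ← CfsgLib.Components.map_pLayer_eq_layer, comap_map_eq, QuotientGroup.ker_mk'] at hgoal
  rw [← IsPComponent.pElems_eq_self hK]
  refine (CfsgLib.Components.map_pElems_le Y.subtype K).trans ((closure_le _).mpr ?_)
  rintro x ⟨hx, k, hk⟩
  have hn : (Cfsg.pLayer 2 X).Normal := CfsgLib.Signalizer.pLayerNormal 2 X
  exact CfsgLib.Components.mem_of_isSubnormal_of_mem_sup hn.isSubnormal
    (CfsgLib.PLocal.coprime_card_pPrimeCore 2 X) hk (hgoal hx)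

/-- The `2`-layer of `Y` lies in the `2`-layer of `X`. -/
theorem pLayer_map_subtype_le_two
    (hR : IsPGroup 2 R) (hCY : centralizer (R : Set X) ≤ Y) (hYN : Y ≤ normalizer (R : Set X))
    (hY : R ≤ Y ∨ Y = centralizer (R : Set X)) :
    (Cfsg.pLayer 2 Y).map Y.subtype ≤ Cfsg.pLayer 2 X := by
  rw [map_le_iff_le_comap]
  exact sSup_le fun K hK => map_le_iff_le_comap.mp
    (map_subtype_pComponent_le_pLayer_two hR hCY hYN hY hK)

end CfsgLib.Balance
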