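import Cfsg.Agent.SylowFixing.Odd

/-!
# Automorphisms fixing a Sylow 2-subgroup pointwise

For `O(G) = 1` the group `C` of automorphisms fixing a Sylow 2-subgroup of `G` has a derived
group of odd order, so abelian Sylow 2-subgroups with normal complements. It is solvable once
groups of odd order are.
-/

set_option autoImplicit false
set_option linter.style.haveILetI false

namespace CfsgLib.SylowFixing

open Subgroup SemidirectProduct
open scoped commutatorElement

universe u

variable {G : Type u} [Group G] [Finite G]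

theorem finite_holomorph : Finite (G ⋊[MonoidHom.id (MulAut G)] MulAut G) := by
  haveI : Finite (MulAut G) := Finite.of_injective (fun φ : MulAut G => (φ : G → G)) DFunLike.coe_injective
  exact Finite.of_injective (fun x => (x.left, x.right)) fun a b h => by
    obtain ⟨h1, h2⟩ := Prod.mk.injEq .. ▸ h
    exact SemidirectProduct.ext h1 h2

/-- An automorphism of 2-power order in the derived group of a group of automorphisms fixing a
Sylow 2-subgroup is trivial. -/
theorem aut_eq_one_of_pow_two_pow
    (hO : ∀ N : Subgroup G, N.Normal → Odd (Nat.card N) → N = ⊥) (S : Sylow 2 G)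
    {C : Subgroup (MulAut G)} (hC : ∀ φ ∈ C, ∀ s : G, s ∈ S → φ s = s)
    {c : MulAut G} (hc : c ∈ ⁅C, C⁆) {m : ℕ} (hm : c ^ 2 ^ m = 1) : c = 1 := by
  haveI : Fact (Nat.Prime 2) := ⟨Nat.prime_two⟩
  haveI := finite_holomorph (G := G)
  set il : G →* G ⋊[MonoidHom.id (MulAut G)] MulAut G := inl
  set ir : MulAut G →* G ⋊[MonoidHom.id (MulAut G)] MulAut G := inr
  have hil : Function.Injective il := inl_injective
  set G' := il.range
  have hn : G'.Normal := by
    have : G' = (rightHom : (G ⋊[MonoidHom.id (MulAut G)] MulAut G) →* MulAut G).ker :=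
      range_inl_eq_ker_rightHom
    rw [this]; infer_instance
  have hO' : ∀ N : Subgroup (G ⋊[MonoidHom.id (MulAut G)] MulAut G), N ≤ G' →
      G' ≤ normalizer (N : Set (G ⋊[MonoidHom.id (MulAut G)] MulAut G)) → Odd (Nat.card N) → N = ⊥ := by
    intro N hN hGN hodd
    have hnor : (N.comap il).Normal :=
      ⟨fun x hx g => by
        rw [mem_comap, map_mul, map_mul, map_inv]
        exact (mem_normalizer_iff.1 (hGN ⟨g, rfl⟩) _).1 hx⟩
    have h := hO _ hnor (by
      rw [← card_map_of_injective hil, map_comap_eq_self hN]; exact hodd)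
    rw [← map_comap_eq_self hN, h, Subgroup.map_bot]
  have hSi : ¬ 2 ∣ ((S : Subgroup G).map il).relIndex G' := by
    rw [show G' = (⊤ : Subgroup G).map il from MonoidHom.range_eq_map il,
      relIndex_map_map_of_injective _ _ hil, relIndex_top_right]
    exact S.not_dvd_index
  have hW : C.map ir ≤ centralizer (((S : Subgroup G).map il : Subgroup _) :
      Set (G ⋊[MonoidHom.id (MulAut G)] MulAut G)) := by
    rintro _ ⟨φ, hφ, rfl⟩
    refine mem_centralizer_iff.2 ?_
    rintro _ ⟨s, hs, rfl⟩
    ext
    · simp [il, ir, hC φ hφ s hs]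
    · simp [il, ir]
  have h := commute_of_pow_two_pow (hGn := hn) hO' (map_le_range il _) (S.isPGroup'.map il) hSi hW m
    (ir c) (by rw [← map_commutator]; exact mem_map_of_mem ir hc) (by rw [← map_pow, hm, map_one])
  refine MulEquiv.ext fun g => ?_
  have h1 := congrArg SemidirectProduct.left (h (il g) ⟨g, rfl⟩).eq
  simpa [il, ir] using h1

/-- The derived group of the automorphisms fixing a Sylow 2-subgroup has odd order. -/
theorem odd_card_commutator_aut
    (hO : ∀ N : Subgroup G, N.Normal → Odd (Nat.card N) → N = ⊥) (S : Sylow 2 G)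
    {C : Subgroup (MulAut G)} (hC : ∀ φ ∈ C, ∀ s : G, s ∈ S → φ s = s) :
    Odd (Nat.card (⁅C, C⁆ : Subgroup (MulAut G))) := by
  haveI : Fact (Nat.Prime 2) := ⟨Nat.prime_two⟩
  haveI : Finite (MulAut G) := Finite.of_injective (fun φ : MulAut G => (φ : G → G)) DFunLike.coe_injective
  refine Nat.not_even_iff_odd.1 fun he => ?_
  obtain ⟨⟨x, hx⟩, h2⟩ := exists_prime_orderOf_dvd_card' 2 (even_iff_two_dvd.1 he)
  rw [orderOf_mk] at h2
  have h := aut_eq_one_of_pow_two_pow hO S hC hx (m := 1) (by rw [pow_one, ← h2, pow_orderOf_eq_one])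
  rw [h, orderOf_one] at h2
  omega

/-- Sylow 2-subgroups of a finite group with derived group of odd order. -/
theorem sylow_two_of_odd_commutator {K : Type*} [Group K] [Finite K]
    (h : Odd (Nat.card (commutator K))) (T : Sylow 2 K) :
    (∀ a b : T, a * b = b * a) ∧
      ∃ N : Subgroup K, N.Normal ∧ IsComplement' N (T : Subgroup K) := by
  haveI : Fact (Nat.Prime 2) := ⟨Nat.prime_two⟩
  have hdisj : ∀ a ∈ (T : Subgroup K), a ∈ commutator K → a = 1 := fun a ha hac => by
    obtain ⟨k, hk⟩ := T.isPGroup' ⟨a, ha⟩
    refine orderOf_eq_one_iff.1 (Nat.eq_one_of_dvd_coprimes ((Nat.coprime_two_right.2 h).pow_right k)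
      ((commutator K).orderOf_dvd_natCard hac) (orderOf_dvd_of_pow_eq_one (congrArg Subtype.val hk)))
  have hab : ∀ a b : T, a * b = b * a := fun a b => by
    rw [← commutatorElement_eq_one_iff_mul_comm]
    exact Subtype.ext (hdisj _ ⁅a, b⁆.2 (by
      rw [commutator_def]
      exact commutator_mem_commutator (mem_top (a : K)) (mem_top (b : K))))
  have hN : normalizer ((T : Subgroup K) : Set K) ≤ centralizer ((T : Subgroup K) : Set K) := by
    intro n hn
    refine mem_centralizer_iff.2 fun a ha => ?_
    have h1 : ⁅n, a⁆ = 1 := hdisj _ (by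
        rw [commutatorElement_def]
        exact mul_mem ((mem_normalizer_iff.1 hn a).1 ha) (inv_mem ha))
      (by rw [commutator_def]; exact commutator_mem_commutator (mem_top n) (mem_top a))
    exact (commutatorElement_eq_one_iff_mul_comm.1 h1).symm
  exact ⟨hab, _, inferInstance, MonoidHom.ker_transferSylow_isComplement' T hN⟩

/-- S0227 in full, given the solvability of groups of odd order. -/
theorem fixing_facts (hFT : ∀ (K : Type u) [Group K] [Finite K], Odd (Nat.card K) → Group.IsSolvable K)
    (hO : ∀ N : Subgroup G, N.Normal → Odd (Nat.card N) → N = ⊥) (S : Sylow 2 G)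
    (C : Subgroup (MulAut G)) (hC : ∀ φ ∈ C, ∀ s : G, s ∈ S → φ s = s) :
    (∀ T : Sylow 2 C, (∀ a b : T, a * b = b * a) ∧
      ∃ N : Subgroup C, N.Normal ∧ IsComplement' N (T : Subgroup C)) ∧ Group.IsSolvable C := by
  haveI : Finite (MulAut G) := Finite.of_injective (fun φ : MulAut G => (φ : G → G)) DFunLike.coe_injective
  have hodd : Odd (Nat.card (commutator C)) := by
    have := odd_card_commutator_aut hO S hC
    rwa [← card_map_of_injective C.subtype_injective, commutator_def, map_commutator,
      ← MonoidHom.range_eq_map, range_subtype]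
  refine ⟨sylow_two_of_odd_commutator hodd, ?_⟩
  haveI := hFT (commutator C) hodd
  exact solvable_of_ker_le_range (commutator C).subtype (Abelianization.of (G := C))
    (by rw [Abelianization.ker_of, range_subtype])

end CfsgLib.SylowFixing
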