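import Cfsg.Agent.SylowFixing.TwoBalance

/-!
# A 2-group acting with the fixed points of one of its commutators

If `G = QN` with `Q ∩ N = 1`, `Q` a 2-group and `t ∈ Z(Q) ∩ Q'` has the same fixed points in `N`
as `Q`, then `[N, Q]` lies in `O(N)`, in particular has odd order.
-/

set_option autoImplicit false
set_option linter.style.haveILetI false

namespace CfsgLib.SylowFixing

open Subgroup
open scoped commutatorElement

variable {G : Type*} [Group G] [Finite G] {N Q : Subgroup G}

theorem commutator_le_oddCore_of_shared_centralizer [hN : N.Normal] (hQ : IsPGroup 2 Q) {t : G}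
    (htQ : t ∈ ⁅Q, Q⁆)
    (hC : N ⊓ centralizer (Q : Set G) = N ⊓ centralizer ({t} : Set G)) :
    ⁅N, Q⁆ ≤ (Cfsg.pPrimeCore 2 N).map N.subtype := by
  haveI : Fact (Nat.Prime 2) := ⟨Nat.prime_two⟩
  have htq : t ∈ Q := (commutator_le.2 fun a ha b hb =>
    mul_mem (mul_mem (mul_mem ha hb) (inv_mem ha)) (inv_mem hb)) htQ
  obtain ⟨P, hP⟩ := hQ.exists_le_sylow
  set R := (P : Subgroup G) ⊓ N with hR
  have hR2 : IsPGroup 2 R := P.isPGroup'.to_le inf_le_left
  have hRi : ¬ 2 ∣ R.relIndex N := by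
    rw [hR, inf_relIndex_right]
    exact Transfer.not_dvd_relIndex_of_normal P N
  have hQR : Q ≤ normalizer (R : Set G) :=
    (le_inf (hP.trans le_normalizer) le_normalizer_of_normal).trans inf_normalizer_le_normalizer_inf
  -- `Q` centralizes `R`
  have hQRc : R ≤ centralizer (Q : Set G) := by
    set C := R ⊓ centralizer (Q : Set G) with hCdef
    by_contra hne
    have hlt : C < R := lt_of_le_of_ne inf_le_left fun h => hne (h ▸ inf_le_right)
    have hlt' := Transfer.lt_inf_normalizer hR2 hlt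
    have hQC : Q ≤ normalizer (C : Set G) :=
      (le_inf hQR (le_normalizer.trans (le_normalizer_cent Q))).trans inf_normalizer_le_normalizer_inf
    set S₁ := R ⊓ normalizer (C : Set G) with hS₁
    have hQS : Q ≤ normalizer (S₁ : Set G) :=
      (le_inf hQR (hQC.trans le_normalizer)).trans inf_normalizer_le_normalizer_inf
    obtain ⟨z, hzS, hzC, hz⟩ := exists_fixed_mod (Q := Q ⊔ S₁) (S₁ := S₁) (V := C)
      (P.isPGroup'.to_le (sup_le hP (inf_le_left.trans inf_le_left))) hlt'.le le_sup_right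
      (sup_le hQC inf_le_right) (sup_le hQS le_normalizer) hlt'.not_ge
    set Z := C ⊓ centralizer (C : Set G) with hZ
    have hzN : z ∈ normalizer (C : Set G) := (mem_inf.1 hzS).2
    have hη : ∀ q ∈ Q, q * z * q⁻¹ * z⁻¹ ∈ Z := by
      intro q hq
      have h1 := hz q (mem_sup_left hq)
      refine mem_inf.2 ⟨h1, mem_centralizer_iff.2 fun c hc => ?_⟩
      have hc' : z⁻¹ * c * z ∈ C := (mem_normalizer_iff''.1 hzN c).1 hc
      have h2 : q * (z⁻¹ * c * z) = (z⁻¹ * c * z) * q :=
        mem_centralizer_iff.1 (mem_inf.1 hc').2 q hq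
      have h3 : q * c = c * q := mem_centralizer_iff.1 (mem_inf.1 hc).2 q hq
      calc c * (q * z * q⁻¹ * z⁻¹) = q * z * (z⁻¹ * c * z) * q⁻¹ * z⁻¹ := by
            rw [← mul_assoc, ← mul_assoc, ← mul_assoc, ← h3]; group
        _ = q * z * q⁻¹ * (q * (z⁻¹ * c * z)) * q⁻¹ * z⁻¹ := by group
        _ = _ := by rw [h2]; group
    have hcomm : ∀ a b : Z, a * b = b * a := fun a b => Subtype.ext
      (mem_centralizer_iff.1 (mem_inf.1 b.2).2 (a : G) (mem_inf.1 a.2).1)
    have hfix : ∀ a ∈ Q, ∀ c ∈ Z, a * c * a⁻¹ = c := fun a ha c hc => by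
      rw [mem_centralizer_iff.1 (mem_inf.1 (mem_inf.1 hc).1).2 a ha, mul_inv_cancel_right]
    let φ : Q →* Z :=
      { toFun := fun q => ⟨_, hη q q.2⟩
        map_one' := Subtype.ext (by simp)
        map_mul' := fun a b => by
          rw [hcomm]
          refine Subtype.ext ?_
          simp only [Subgroup.coe_mul]
          conv_rhs => rw [← hfix a a.2 _ (hη b b.2)]
          group }
    have hker : ⁅Q, Q⁆ ≤ φ.ker.map Q.subtype := by
      refine commutator_le.2 fun a ha b hb => ⟨⁅(⟨a, ha⟩ : Q), (⟨b, hb⟩ : Q)⁆, ?_, rfl⟩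
      rw [SetLike.mem_coe, MonoidHom.mem_ker, map_commutatorElement,
        commutatorElement_eq_one_iff_mul_comm]
      exact hcomm _ _
    obtain ⟨t', ht', htt⟩ := hker htQ
    have h1 : t * z * t⁻¹ * z⁻¹ = 1 := by
      have h := congrArg Subtype.val (MonoidHom.mem_ker.1 ht')
      rw [← htt]
      exact h
    have hzN' : z ∈ N ⊓ centralizer ({t} : Set G) := by
      refine mem_inf.2 ⟨(mem_inf.1 (mem_inf.1 hzS).1).2, mem_centralizer_singleton_iff.2 ?_⟩
      exact (mul_inv_eq_iff_eq_mul.1 (mul_inv_eq_one.1 h1)).symm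
    rw [← hC] at hzN'
    exact hzC (mem_inf.2 ⟨(mem_inf.1 hzS).1, (mem_inf.1 hzN').2⟩)
  -- modulo `O(N)`
  set O := (Cfsg.pPrimeCore 2 N).map N.subtype with hO
  haveI : O.Normal := inferInstance
  have hOodd : (Nat.card O).Coprime 2 := by
    rw [hO, card_map_of_injective N.subtype_injective]
    exact CfsgLib.PLocal.coprime_card_pPrimeCore 2 N
  set f := QuotientGroup.mk' O with hf
  haveI hn' : (N.map f).Normal := hN.map f (QuotientGroup.mk'_surjective O)
  have hO' : ∀ M : Subgroup (G ⧸ O), M ≤ N.map f → N.map f ≤ normalizer (M : Set (G ⧸ O)) →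
      Odd (Nat.card M) → M = ⊥ := by
    intro M hM hNM hodd
    set M' := (M.comap f).subgroupOf N with hM'
    haveI : M'.Normal := ⟨fun x hx g => by
      rw [hM', mem_subgroupOf, mem_comap, Subgroup.coe_mul, Subgroup.coe_mul, InvMemClass.coe_inv,
        map_mul, map_mul, map_inv]
      exact (mem_normalizer_iff.1 (hNM (mem_map_of_mem f g.2)) _).1 hx⟩
    have hcard : (Nat.card M').Coprime 2 := by
      set g := (f.comp N.subtype).comp M'.subtype
      have h1 := g.ker.card_mul_index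
      have h2 : Nat.card g.ker ∣ Nat.card O := by
        refine (dvd_of_eq (card_map_of_injective (f := N.subtype.comp M'.subtype)
          (N.subtype_injective.comp M'.subtype_injective)).symm).trans (card_dvd_of_le ?_)
        rintro _ ⟨x, hx, rfl⟩
        exact (QuotientGroup.eq_one_iff _).1 hx
      have h3 : g.ker.index ∣ Nat.card M := by
        rw [index_ker]
        refine card_dvd_of_le ?_
        rintro _ ⟨x, rfl⟩
        exact x.2
      rw [← h1]
      exact Nat.Coprime.mul_left (hOodd.coprime_dvd_left h2)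
        ((Nat.coprime_two_right.2 hodd).coprime_dvd_left h3)
    have hle := CfsgLib.PLocal.le_pPrimeCore hcard
    refine eq_bot_iff.2 fun y hy => ?_
    obtain ⟨x, hx, rfl⟩ := hM hy
    exact mem_bot.2 ((QuotientGroup.eq_one_iff x).2 ⟨⟨x, hx⟩, hle (mem_subgroupOf.2 hy), rfl⟩)
  have hW : Q.map f ≤ centralizer ((R.map f : Subgroup (G ⧸ O)) : Set (G ⧸ O)) := by
    rintro _ ⟨q, hq, rfl⟩
    refine mem_centralizer_iff.2 ?_
    rintro _ ⟨r, hr, rfl⟩
    rw [← map_mul, ← map_mul, (mem_centralizer_iff.1 (hQRc hr) q hq).symm]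
  obtain ⟨k, hk⟩ := hQ ⟨t, htq⟩
  have hk' : f t ^ 2 ^ k = 1 := by rw [← map_pow, show t ^ 2 ^ k = 1 from congrArg Subtype.val hk, map_one]
  have hcen := commute_of_pow_two_pow (hGn := hn') hO' (map_mono inf_le_right) (hR2.map f)
    (fun h => hRi (h.trans (relIndex_map_dvd f R N))) hW k (f t)
    (by rw [← map_commutator]; exact mem_map_of_mem f htQ) hk'
  refine commutator_le.2 fun n hn q hq => ?_
  -- a fixed point of `t` in `nO`
  have hcop : (Nat.card (zpowers t)).Coprime (Nat.card O) := by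
    obtain ⟨j, hj⟩ := IsPGroup.iff_card.1 (hQ.to_le (zpowers_le.2 htq))
    rw [hj]; exact (hOodd.symm).pow_left j
  have hfix : ∀ a ∈ zpowers t, n⁻¹ * (a * n * a⁻¹) ∈ O := by
    intro a ha
    obtain ⟨i, rfl⟩ := mem_zpowers_iff.1 ha
    rw [← QuotientGroup.eq_one_iff, ← QuotientGroup.mk'_apply]
    simp only [map_mul, map_inv, map_zpow]
    change (f n)⁻¹ * (f t ^ i * f n * (f t ^ i)⁻¹) = 1
    rw [((hcen (f n) (mem_map_of_mem f hn)).zpow_left i).eq]
    group
  have := (hQ.to_le (zpowers_le.2 htq)).isNilpotent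
  obtain ⟨c, hc, hnc⟩ := CfsgLib.Coprime.exists_fixed_mem_coset le_normalizer_of_normal hcop
    (Or.inl inferInstance) hfix
  have hcN : c ∈ N := by
    have h := mul_mem hn (map_subtype_le _ hnc)
    rwa [mul_inv_cancel_left] at h
  have hcQ : c ∈ centralizer (Q : Set G) := by
    have h : c ∈ N ⊓ centralizer ({t} : Set G) := mem_inf.2 ⟨hcN, mem_centralizer_singleton_iff.2
      (mem_centralizer_iff.1 hc t (mem_zpowers t)).symm⟩
    rw [← hC] at h
    exact (mem_inf.1 h).2
  set o := n⁻¹ * c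
  have e : ⁅n, q⁆ = c * (o⁻¹ * (q * o * q⁻¹)) * c⁻¹ := by
    have hqc := mem_centralizer_iff.1 hcQ q hq
    calc ⁅n, q⁆ = c * o⁻¹ * q * o * (c⁻¹ * q⁻¹) := by
          simp only [commutatorElement_def, o]; group
      _ = c * o⁻¹ * q * o * (q⁻¹ * c⁻¹) := by
          rw [← mul_inv_rev, ← mul_inv_rev, hqc]
      _ = _ := by group
  rw [e]
  exact Normal.conj_mem inferInstance _ (mul_mem (inv_mem hnc) (Normal.conj_mem inferInstance o hnc q)) c

end CfsgLib.SylowFixing
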