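import Cfsg.Agent.FT.Basic
import Cfsg.Agent.SylowFixing.Aut
import Cfsg.Agent.SylowFixing.SharedCentralizer
import Cfsg.Agent.InvComp.Trichotomy
import Cfsg.Agent.Components.LocalBalance
import Cfsg.Agent.InvComp.EvenComponent
import Cfsg.Prelude.Def_KGroupFacts

/-!
# Rows that follow from Glauberman's lemma and the odd order theorem

Each takes `CfsgLib.FT.OddSolvable` as a hypothesis:

* `shared_centralizer` (S2962), `fixing` (S0227), `out_solvable` (S3065),
  `trichotomy` (S1322).
-/

set_option autoImplicit false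
set_option linter.style.haveILetI false

namespace CfsgLib.SylowFixing

open Subgroup
open scoped commutatorElement

universe u

variable {G : Type u} [Group G] [Finite G]

/-- S2962. -/
theorem shared_centralizer (hodd : CfsgLib.FT.OddSolvable.{u}) {N Q : Subgroup G} [N.Normal]
    (hQ : IsPGroup 2 Q) {t : G} (htQ : t ∈ ⁅Q, Q⁆)
    (hC : N ⊓ centralizer (Q : Set G) = N ⊓ centralizer ({t} : Set G)) :
    Group.IsSolvable ↥⁅N, Q⁆ ∧ Odd (Nat.card ↥⁅N, Q⁆) := by
  have h : Odd (Nat.card ↥⁅N, Q⁆) := by
    refine Odd.of_dvd_nat ?_ (card_dvd_of_le (commutator_le_oddCore_of_shared_centralizer hQ htQ hC))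
    rw [card_map_of_injective N.subtype_injective]
    exact Nat.coprime_two_right.1 (CfsgLib.PLocal.coprime_card_pPrimeCore 2 N)
  exact ⟨hodd _ h, h⟩

/-- S0227. -/
theorem fixing (hodd : CfsgLib.FT.OddSolvable.{u})
    (hO : ∀ N : Subgroup G, N.Normal → Odd (Nat.card N) → N = ⊥) (S : Sylow 2 G)
    (C : Subgroup (MulAut G)) (hC : ∀ φ : MulAut G, φ ∈ C ↔ ∀ s : G, s ∈ S → φ s = s) :
    (∀ T : Sylow 2 C, (∀ a b : T, a * b = b * a) ∧
      ∃ N : Subgroup C, N.Normal ∧ IsComplement' N (T : Subgroup C)) ∧ Group.IsSolvable C :=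
  fixing_facts hodd hO S C fun φ h => (hC φ).1 h

/-- S3065. -/
theorem out_solvable (hodd : CfsgLib.FT.OddSolvable.{u}) [IsSimpleGroup G]
    (S : Sylow 2 G) (hS1 : (S : Subgroup G) ≠ ⊥) (hS : Group.IsSolvable (MulAut ↥S)) :
    Group.IsSolvable (Cfsg.Out G) := by
  haveI : Fact (Nat.Prime 2) := ⟨Nat.prime_two⟩
  haveI : Finite (MulAut G) := Finite.of_injective (fun φ : MulAut G => (φ : G → G)) DFunLike.coe_injective
  have hO : ∀ N : Subgroup G, N.Normal → Odd (Nat.card N) → N = ⊥ := by
    intro N hN hoddN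
    rcases hN.eq_bot_or_eq_top with h | h
    · exact h
    · exfalso
      subst h
      rw [Subgroup.card_top] at hoddN
      obtain ⟨n, hn⟩ := IsPGroup.iff_card.1 S.isPGroup'
      rcases Nat.eq_zero_or_pos n with rfl | hn0
      · exact hS1 (card_eq_one.1 (by simpa using hn))
      · exact Nat.not_even_iff_odd.2 hoddN (even_iff_two_dvd.2
          ((hn ▸ dvd_pow_self 2 hn0.ne' : 2 ∣ Nat.card S).trans (card_subgroup_dvd_card _)))
  let M : Subgroup (MulAut G) :=
    { carrier := {φ | (S : Subgroup G).map φ.toMonoidHom = S}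
      one_mem' := Subgroup.map_id _
      mul_mem' := fun {a b} (ha : (S : Subgroup G).map a.toMonoidHom = S) hb => by
        show (S : Subgroup G).map (a * b).toMonoidHom = S
        rw [show (a * b).toMonoidHom = a.toMonoidHom.comp b.toMonoidHom from rfl, ← map_map, hb, ha]
      inv_mem' := fun {a} (ha : (S : Subgroup G).map a.toMonoidHom = S) => by
        show (S : Subgroup G).map (a⁻¹).toMonoidHom = S
        conv_lhs => rw [← ha, map_map]
        convert Subgroup.map_id (S : Subgroup G)
        ext x; simp }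
  let r : M →* MulAut ↥(S : Subgroup G) :=
    CfsgLib.Transitivity.restrictAction M.subtype (S : Subgroup G) fun a => a.2
  set C := r.ker.map M.subtype
  have hC : ∀ φ ∈ C, ∀ s : G, s ∈ S → φ s = s := by
    rintro _ ⟨a, ha, rfl⟩ s hs
    exact congrArg Subtype.val (DFunLike.congr_fun (MonoidHom.mem_ker.1 ha) ⟨s, hs⟩)
  haveI := (fixing_facts hodd hO S C hC).2
  haveI : Group.IsSolvable r.ker :=
    solvable_of_solvable_injective (f := (r.ker.equivMapOfInjective M.subtype M.subtype_injective).toMonoidHom)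
      (r.ker.equivMapOfInjective M.subtype M.subtype_injective).injective
  haveI := hS
  haveI : Group.IsSolvable M := solvable_of_ker_le_range r.ker.subtype r (by rw [range_subtype])
  refine solvable_of_surjective (f := (QuotientGroup.mk' (Cfsg.Inn G)).comp M.subtype) fun x => ?_
  obtain ⟨φ, rfl⟩ := QuotientGroup.mk'_surjective _ x
  obtain ⟨g, hg⟩ := MulAction.exists_smul_eq G
    (S.mapSurjective (f := φ.toMonoidHom) φ.surjective) S
  have hmem : (MulAut.conj g * φ) ∈ M := by
    show (S : Subgroup G).map (MulAut.conj g * φ).toMonoidHom = S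
    rw [show (MulAut.conj g * φ).toMonoidHom = (MulAut.conj g).toMonoidHom.comp φ.toMonoidHom from rfl,
      ← map_map]
    conv_rhs => rw [← hg]
    rfl
  refine ⟨⟨_, hmem⟩, ?_⟩
  show QuotientGroup.mk' (Cfsg.Inn G) (MulAut.conj g * φ) = QuotientGroup.mk' (Cfsg.Inn G) φ
  have h1 : QuotientGroup.mk' (Cfsg.Inn G) (MulAut.conj g) = 1 :=
    (QuotientGroup.eq_one_iff _).2 ⟨g, rfl⟩
  rw [map_mul, h1, one_mul]

/-- Components have even order when groups of odd order are solvable. -/
theorem two_dvd_card_component (hodd : CfsgLib.FT.OddSolvable.{u}) {K : Subgroup G}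
    (hK : Cfsg.IsComponent K) : 2 ∣ Nat.card K := by
  by_contra h
  exact CfsgLib.Components.IsComponent.not_isSolvable hK
    (hodd K (Nat.not_even_iff_odd.1 fun he => h (even_iff_two_dvd.1 he)))

/-- S1322. -/
theorem trichotomy (hodd : CfsgLib.FT.OddSolvable.{u}) (hL2 : Cfsg.pLayer 2 G = Cfsg.layer G)
    (t : G) (ht : orderOf t = 2) (L : Subgroup G) (hLt : L ≤ centralizer ({t} : Set G))
    (hL : Cfsg.IsComponent (L.subgroupOf (centralizer ({t} : Set G)))) :
    ∃ D : Subgroup G, Cfsg.IsComponent D ∧ (L = D ∨ (L < D ∧ D = ⁅D, zpowers t⁆) ∨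
      (D.map (MulAut.conj t).toMonoidHom ≠ D ∧
        L = (Cfsg.layer ↥((D ⊔ D.map (MulAut.conj t).toMonoidHom) ⊓ centralizer ({t} : Set G))).map
          ((D ⊔ D.map (MulAut.conj t).toMonoidHom) ⊓ centralizer ({t} : Set G)).subtype)) := by
  haveI : Fact (Nat.Prime 2) := ⟨Nat.prime_two⟩
  have htt : t * t = 1 := by rw [← sq, ← ht, pow_orderOf_eq_one]
  have hlay : L ≤ Cfsg.layer G := by
    rw [← hL2]
    have hz : centralizer ((zpowers t : Subgroup G) : Set G) = centralizer ({t} : Set G) := by
      rw [zpowers_eq_closure, centralizer_closure]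
    refine CfsgLib.InvComp.le_pLayer_of_isComponent_centralizer
      (IsPGroup.of_card (n := 1) (by rw [Nat.card_zpowers, ht, pow_one])) (hz.ge.trans' hLt)
      (by rw [hz]; exact hL) ?_
    have := two_dvd_card_component hodd hL
    rwa [Nat.card_congr (subgroupOfEquivOfLe hLt).toEquiv] at this
  obtain ⟨D, hD, h⟩ := CfsgLib.InvComp.component_cases htt hLt hL hlay
  refine ⟨D, hD, ?_⟩
  rcases h with ⟨hfix, hLD⟩ | ⟨hne, φ, hφ, hφr⟩
  · rcases eq_or_lt_of_le hLD with h | h
    · exact Or.inl h
    refine Or.inr (Or.inl ⟨h, ?_⟩)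
    have htN : t ∈ normalizer (D : Set G) := mem_normalizer_iff_map_conj_eq.2 hfix
    have hle : ⁅D, zpowers t⁆ ≤ D := le_normalizer_iff_commutator_le_left.mp (zpowers_le.2 htN)
    have : (⁅D, zpowers t⁆.subgroupOf D).Normal :=
      normal_subgroupOf_of_le_normalizer (normalizer_commutator_ge_left D _)
    rcases CfsgLib.Components.IsQuasisimple.normal_eq_top_or_le_center hD.2 (⁅D, zpowers t⁆.subgroupOf D)
      with h' | h'
    · exact le_antisymm (subgroupOf_eq_top.mp h') hle
    exfalso
    have hDt : ⁅D, zpowers t⁆ = ⊥ := CfsgLib.Components.commutator_eq_bot_of_commutator_le_centralizer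
      (CfsgLib.Components.IsComponent.commutator_eq_self hD) fun c hc => mem_centralizer_iff.2 fun d hd =>
        congrArg Subtype.val (mem_center_iff.mp (h' (show (⟨c, hle hc⟩ : D) ∈ _ from hc)) ⟨d, hd⟩)
    have hDC : D ≤ centralizer ({t} : Set G) := by
      have := commutator_eq_bot_iff_le_centralizer.mp hDt
      rwa [zpowers_eq_closure, centralizer_closure] at this
    have heq := CfsgLib.Components.IsComponent.eq_of_le hL
      (CfsgLib.Components.IsComponent.subgroupOf hD hDC) (comap_mono hLD)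
    apply h.ne
    rw [← map_subgroupOf_eq_of_le hLt, heq, map_subgroupOf_eq_of_le hDC]
  refine Or.inr (Or.inr ⟨hne, ?_⟩)
  set Q := (D ⊔ D.map (MulAut.conj t).toMonoidHom) ⊓ centralizer ({t} : Set G) with hQ
  have hLQ : L ≤ Q := le_inf (by
    rw [← hφr]
    rintro _ ⟨d, rfl⟩
    rw [hφ]
    exact mul_mem_sup d.2 ⟨d, d.2, rfl⟩) hLt
  have hLc : Cfsg.IsComponent (L.subgroupOf Q) := by
    refine ⟨?_, CfsgLib.Components.isQuasisimple_congr
      ((subgroupOfEquivOfLe hLt).trans (subgroupOfEquivOfLe hLQ).symm) hL.2⟩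
    exact hL.1.comap (inclusion (inf_le_right : Q ≤ centralizer ({t} : Set G)))
  have hlayQ : L ≤ (Cfsg.layer Q).map Q.subtype := by
    conv_lhs => rw [← map_subgroupOf_eq_of_le hLQ]
    exact map_mono (CfsgLib.Components.IsComponent.le_layer hLc)
  refine le_antisymm hlayQ ?_
  -- every component of `Q` is inside the diagonal
  rw [map_le_iff_le_comap]
  refine sSup_le fun K hK => ?_
  by_contra hKL
  have hKL' : K ≠ L.subgroupOf Q := fun h' => hKL h'.le
  have hcom := CfsgLib.Components.IsComponent.commutator_eq_bot_of_ne hK hLc hKL'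
  -- `K` centralises the diagonal, hence both factors, hence is abelian
  have hKP : ∀ k ∈ K, ∀ d : G, d ∈ D → Commute (k : G) d := by
    intro k hk
    obtain ⟨a, ha, b, hb, hab⟩ := CfsgLib.Coprime.exists_mul_of_mem_sup
      ((le_centralizer_iff.mp (commutator_eq_bot_iff_le_centralizer.mp
        (CfsgLib.Components.IsComponent.commutator_eq_bot_of_ne hD
          (CfsgLib.Components.IsComponent.conj hD t) hne.symm))).trans (centralizer_le_normalizer _))
      (mem_inf.1 k.2).1
    have hc := commutator_eq_bot_iff_le_centralizer.mp (CfsgLib.Components.IsComponent.commutator_eq_bot_of_ne hD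
      (CfsgLib.Components.IsComponent.conj hD t) hne.symm)
    have hDle : D ≤ centralizer ({a} : Set G) := by
      conv_lhs => rw [← CfsgLib.Components.IsComponent.commutator_eq_self hD]
      refine commutator_le.2 fun x hx y hy => mem_centralizer_singleton_iff.2 ?_
      have hmodz : ∀ x ∈ D, (a * x * a⁻¹ * x⁻¹) ∈ centralizer (D : Set G) := by
        intro x hx
        have h1 : (k : G) * φ ⟨x, hx⟩ * (k : G)⁻¹ = φ ⟨x, hx⟩ := by
          have hx' : φ ⟨x, hx⟩ ∈ L := hφr.le ⟨_, rfl⟩
          have h2 := congrArg Subtype.val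
            (mem_centralizer_iff.mp ((commutator_eq_bot_iff_le_centralizer.mp hcom) hk)
              ⟨_, hLQ hx'⟩ (mem_subgroupOf.2 hx'))
          simp only [Subgroup.coe_mul] at h2
          rw [← h2, mul_inv_cancel_right]
        rw [hφ, ← hab] at h1
        set x' := t * x * t⁻¹
        have hx'D : x' ∈ D.map (MulAut.conj t).toMonoidHom := ⟨x, hx, rfl⟩
        have c1 : Commute b x := (mem_centralizer_iff.mp (hc hx) b hb)
        have c2 : Commute a x' := (mem_centralizer_iff.mp (hc ha) x' hx'D).symm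
        have h3 : a * x * a⁻¹ * x⁻¹ = x' * (b * x' * b⁻¹)⁻¹ := by
          have h4 : (a * x * a⁻¹) * (b * x' * b⁻¹) = x * x' := by
            have c3 : Commute a b := (mem_centralizer_iff.mp (hc ha) b hb).symm
            calc (a * x * a⁻¹) * (b * x' * b⁻¹)
                = a * x * (a⁻¹ * b) * x' * b⁻¹ := by group
              _ = a * (x * b) * a⁻¹ * x' * b⁻¹ := by rw [c3.inv_left.eq]; group
              _ = a * b * x * (a⁻¹ * x') * b⁻¹ := by rw [← c1.eq]; group
              _ = a * b * (x * x') * (b * a)⁻¹ := by rw [c2.inv_left.eq]; group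
              _ = x * x' := by rw [← c3.eq]; exact h1
          calc a * x * a⁻¹ * x⁻¹ = (a * x * a⁻¹ * (b * x' * b⁻¹)) * (b * x' * b⁻¹)⁻¹ * x⁻¹ := by group
            _ = x * (x' * (b * x' * b⁻¹)⁻¹) * x⁻¹ := by rw [h4]; group
            _ = _ := by
              rw [← mem_centralizer_iff.mp (hc hx) _ (mul_mem hx'D (inv_mem (mul_mem (mul_mem hb hx'D)
                (inv_mem hb)))), mul_inv_cancel_right]
        rw [h3]
        exact le_centralizer_iff.mp hc (mul_mem hx'D (inv_mem (mul_mem (mul_mem hb hx'D) (inv_mem hb))))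
      have hx2 := hmodz x hx
      have hy2 := hmodz y hy
      set z := a * x * a⁻¹ * x⁻¹ with hz
      set w := a * y * a⁻¹ * y⁻¹ with hw
      have hwy : w * y ∈ D := by
        rw [hw, show a * y * a⁻¹ * y⁻¹ * y = a * y * a⁻¹ by group]
        exact mul_mem (mul_mem ha hy) (inv_mem ha)
      have hz1 := mem_centralizer_iff.mp hx2 (w * y) hwy
      have hw1 := mem_centralizer_iff.mp hy2 x⁻¹ (inv_mem hx)
      have key : a * ⁅x, y⁆ * a⁻¹ = ⁅x, y⁆ := by
        calc a * ⁅x, y⁆ * a⁻¹ = z * (x * (w * y) * x⁻¹) * z⁻¹ * (y⁻¹ * w⁻¹) := by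
              simp only [hz, hw, commutatorElement_def]; group
          _ = x * (w * y) * x⁻¹ * y⁻¹ * w⁻¹ := by
              rw [← mem_centralizer_iff.mp hx2 (x * (w * y) * x⁻¹) (mul_mem (mul_mem hx hwy) (inv_mem hx))]
              group
          _ = w * (x * y * x⁻¹ * y⁻¹) * w⁻¹ := by
              rw [← mul_assoc x w y, mem_centralizer_iff.mp hy2 x hx]
              group
          _ = _ := by
              rw [← mem_centralizer_iff.mp hy2 (x * y * x⁻¹ * y⁻¹)
                (mul_mem (mul_mem (mul_mem hx hy) (inv_mem hx)) (inv_mem hy)), mul_inv_cancel_right,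
                commutatorElement_def]
      exact (mul_inv_eq_iff_eq_mul.mp key).symm
    intro d hd
    rw [← hab]
    exact (show Commute a d from (mem_centralizer_singleton_iff.mp (hDle hd)).symm).mul_left
      (mem_centralizer_iff.mp (hc hd) b hb)
  refine CfsgLib.Components.IsComponent.not_commute hK (commutator_eq_bot_iff_le_centralizer.mpr ?_)
  intro k hk k' hk'
  refine Subtype.ext ?_
  simp only [Subgroup.coe_mul]
  have hkt : Commute (k : G) t := mem_centralizer_singleton_iff.mp (mem_inf.1 k.2).2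
  obtain ⟨a, ha, b, hb, hab⟩ := CfsgLib.Coprime.exists_mul_of_mem_sup
    ((le_centralizer_iff.mp (commutator_eq_bot_iff_le_centralizer.mp
      (CfsgLib.Components.IsComponent.commutator_eq_bot_of_ne hD
        (CfsgLib.Components.IsComponent.conj hD t) hne.symm))).trans (centralizer_le_normalizer _))
    (mem_inf.1 k'.2).1
  obtain ⟨e, he, rfl⟩ := hb
  rw [← hab]
  exact ((hKP k hk a ha).mul_right
    ((hkt.mul_right (hKP k hk e he)).mul_right hkt.inv_right)).eq.symm

end CfsgLib.SylowFixing
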