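import Cfsg.Agent.Transfer.Frobenius
import Cfsg.Agent.ZStar.Theorem

/-!
# Automorphisms fixing a Sylow 2-subgroup

`fix_of_tame`: in a group `Γ` an element `c` central in a Sylow subgroup has no other conjugate in
it, provided the normalizers of tame intersections `E ∋ c` with `C_P(E) ≤ E` fix it.

`commute_of_mem_commutator`: if `G` is normal, has trivial odd core, and `W` centralizes a Sylow
2-subgroup `S` of `G`, then an involution of `⁅W, W⁆` centralizes `G` (Glauberman): in the tame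
normalizers the commutators with `c` come from a homomorphism of `W` into an abelian 2-group, so
`c` is isolated and the Z*-theorem applies.
-/

set_option autoImplicit false
set_option linter.style.haveILetI false

namespace CfsgLib.SylowFixing

open Subgroup
open CfsgLib.Transfer (FusionChain IsTameInf exists_fusionChain card_subgroupOf_eq card_lt_card_of_lt)
open scoped commutatorElement

universe u

variable {Γ : Type u} [Group Γ] [Finite Γ]

omit [Finite Γ] in
theorem le_normalizer_cent (U : Subgroup Γ) :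
    normalizer (U : Set Γ) ≤ normalizer (centralizer (U : Set Γ) : Set Γ) := by
  intro g hg
  have key : ∀ g ∈ normalizer (U : Set Γ), ∀ x ∈ centralizer (U : Set Γ),
      g * x * g⁻¹ ∈ centralizer (U : Set Γ) := fun g hg x hx => mem_centralizer_iff.2 fun u hu => by
    have h := mem_centralizer_iff.1 hx _ ((mem_normalizer_iff''.1 hg u).1 hu)
    calc u * (g * x * g⁻¹) = g * (g⁻¹ * u * g * x) * g⁻¹ := by group
      _ = g * (x * (g⁻¹ * u * g)) * g⁻¹ := by rw [h]
      _ = g * x * g⁻¹ * u := by group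
  refine mem_normalizer_iff.2 fun x => ⟨key g hg x, fun h => ?_⟩
  have h' := key g⁻¹ (inv_mem hg) _ h
  rwa [inv_inv, ← mul_assoc, ← mul_assoc, inv_mul_cancel, one_mul, inv_mul_cancel_right] at h'

omit [Finite Γ] in
theorem zpowers_le_normalizer_of_commute {U : Subgroup Γ} {c : Γ} (h : ∀ s ∈ U, Commute s c) :
    zpowers c ≤ normalizer (U : Set Γ) :=
  (zpowers_le.2 (mem_centralizer_iff.2 fun s hs => (h s hs).eq)).trans (centralizer_le_normalizer _)

theorem conj_fix_of_tame {p : ℕ} [Fact p.Prime] (P : Sylow p Γ) {c : Γ}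
    (hPc : (P : Subgroup Γ) ≤ centralizer ({c} : Set Γ))
    (hN : ∀ Q : Sylow p Γ, c ∈ (P : Subgroup Γ) ⊓ (Q : Subgroup Γ) → IsTameInf P Q →
      (P : Subgroup Γ) ⊓ centralizer ((((P : Subgroup Γ) ⊓ (Q : Subgroup Γ)) : Subgroup Γ) : Set Γ) ≤
        (P : Subgroup Γ) ⊓ (Q : Subgroup Γ) →
      ∀ n ∈ normalizer ((((P : Subgroup Γ) ⊓ (Q : Subgroup Γ)) : Subgroup Γ) : Set Γ),
        n⁻¹ * c * n = c) :
    ∀ (k : ℕ) (A : Subgroup Γ), Nat.card Γ - Nat.card A = k → c ∈ A → A ≤ (P : Subgroup Γ) →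
      ∀ n : Γ, (∀ a ∈ A, n⁻¹ * a * n ∈ (P : Subgroup Γ)) → n⁻¹ * c * n = c := by
  intro k
  induction k using Nat.strong_induction_on with
  | _ k ih =>
  intro A hk hcA hAP n hn
  have hrec : ∀ B : Subgroup Γ, Nat.card A < Nat.card B → c ∈ B → B ≤ (P : Subgroup Γ) →
      ∀ m : Γ, (∀ a ∈ B, m⁻¹ * a * m ∈ (P : Subgroup Γ)) → m⁻¹ * c * m = c := fun B hB =>
    ih _ (by have := Subgroup.card_le_card_group B; omega) B rfl
  -- every step of a chain fixes `c`
  suffices key : ∀ (B : Set Γ) (g : Γ), FusionChain P B g → c ∈ B → Nat.card A ≤ B.ncard →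
      g⁻¹ * c * g = c by
    refine key _ n (exists_fusionChain P (A := (A : Set Γ)) (SetLike.coe_subset_coe.2 hAP) ?_)
      hcA (Nat.card_coe_set_eq _).le
    rintro _ ⟨a, ha, rfl⟩
    exact hn a ha
  intro B g hg
  induction hg with
  | nil B => intro _ _; group
  | cons B Q x g hB ht hx _ ihg =>
    intro hcB hcard
    set E := (P : Subgroup Γ) ⊓ (Q : Subgroup Γ) with hE
    have hcE : c ∈ E := hB hcB
    have hle : Nat.card A ≤ Nat.card E :=
      hcard.trans ((Set.ncard_le_ncard hB (Set.toFinite _)).trans (Nat.card_coe_set_eq _).ge)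
    have hx' : x⁻¹ * c * x = c := by
      have hnE : ∀ a ∈ E, x⁻¹ * a * x ∈ E := fun a ha => (mem_normalizer_iff''.1 hx a).1 ha
      rcases lt_or_eq_of_le hle with hlt | heq
      · exact hrec E hlt hcE inf_le_left x fun a ha => (hnE a ha).1
      by_cases hcent : (P : Subgroup Γ) ⊓ centralizer (E : Set Γ) ≤ E
      · exact hN Q hcE ht hcent x hx
      -- enlarge `E` by `C_P(E)`
      set N := normalizer (E : Set Γ) with hNdef
      set CP := (P : Subgroup Γ) ⊓ centralizer (E : Set Γ) with hCP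
      let PN : Sylow p N := Sylow.ofCard _ (card_subgroupOf_eq P ht.1)
      set K : Subgroup N := (centralizer (E : Set Γ)).subgroupOf N with hK
      haveI : K.Normal := normal_subgroupOf_of_le_normalizer (le_normalizer_cent E)
      let PK : Sylow p K :=
        (PN.isPGroup'.comap_subtype).toSylow (Transfer.not_dvd_relIndex_of_normal PN K)
      have hfrat := Sylow.normalizer_sup_eq_top PK
      have hxm : (⟨x, hx⟩ : N) ∈ normalizer (((PK : Subgroup K).map K.subtype : Subgroup N) : Set N) ⊔ K :=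
        hfrat.symm ▸ mem_top _
      rw [← SetLike.mem_coe, mul_normal] at hxm
      obtain ⟨m, hm, k', hk', hmk⟩ := hxm
      have hxe : x = (m : Γ) * (k' : Γ) := congrArg Subtype.val hmk.symm
      have hk'C : (k' : Γ)⁻¹ * c * (k' : Γ) = c := by
        have := mem_centralizer_iff.1 (mem_subgroupOf.1 hk') c hcE
        rw [mul_assoc, this, inv_mul_cancel_left]
      have hPK : (PK : Subgroup K).map K.subtype = CP.subgroupOf N := by
        show ((PN : Subgroup N).subgroupOf K).map K.subtype = _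
        rw [subgroupOf_map_subtype]
        ext z
        simp [PN, hK, hCP, mem_subgroupOf]
      have hmc : (m : Γ)⁻¹ * c * (m : Γ) = c := by
        have hlt : Nat.card A < Nat.card (E ⊔ CP : Subgroup Γ) := by
          rw [heq]
          exact card_lt_card_of_lt (lt_of_le_of_ne le_sup_left fun h => hcent (h ▸ le_sup_right))
        refine hrec _ hlt (mem_sup_left hcE) (sup_le inf_le_left inf_le_left) m fun a ha => ?_
        suffices h : E ⊔ CP ≤ (P : Subgroup Γ).comap (MulAut.conj (m : Γ)⁻¹).toMonoidHom by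
          simpa using h ha
        refine sup_le (fun a ha => ?_) (fun a ha => ?_)
        · have := (mem_normalizer_iff''.1 m.2 a).1 ha
          exact mem_comap.2 (by simpa using (mem_inf.1 this).1)
        · have haN : a ∈ N := centralizer_le_normalizer _ ha.2
          rw [hPK] at hm
          have h1 := (mem_normalizer_iff''.1 hm ⟨a, haN⟩).1 (mem_subgroupOf.2 ha)
          have h2 := (mem_inf.1 (mem_subgroupOf.1 h1)).1
          exact mem_comap.2 (by simpa using h2)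
      calc x⁻¹ * c * x = (k' : Γ)⁻¹ * ((m : Γ)⁻¹ * c * (m : Γ)) * (k' : Γ) := by rw [hxe]; group
        _ = c := by rw [hmc, hk'C]
    have h1 : g⁻¹ * c * g = c := by
      refine ihg ⟨c, hcB, hx'⟩ ?_
      rwa [Set.ncard_image_of_injective _ fun a b hab => mul_left_cancel (mul_right_cancel hab)]
    calc (x * g)⁻¹ * c * (x * g) = g⁻¹ * (x⁻¹ * c * x) * g := by group
      _ = c := by rw [hx', h1]

/-- An element of prime-power order central in `P` with fixed tame normalizers is weakly closed. -/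
theorem eq_of_conj_mem {p : ℕ} [Fact p.Prime] (P : Sylow p Γ) {c : Γ} (hc : c ∈ (P : Subgroup Γ))
    (hPc : (P : Subgroup Γ) ≤ centralizer ({c} : Set Γ))
    (hN : ∀ Q : Sylow p Γ, c ∈ (P : Subgroup Γ) ⊓ (Q : Subgroup Γ) → IsTameInf P Q →
      (P : Subgroup Γ) ⊓ centralizer ((((P : Subgroup Γ) ⊓ (Q : Subgroup Γ)) : Subgroup Γ) : Set Γ) ≤
        (P : Subgroup Γ) ⊓ (Q : Subgroup Γ) →
      ∀ n ∈ normalizer ((((P : Subgroup Γ) ⊓ (Q : Subgroup Γ)) : Subgroup Γ) : Set Γ),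
        n⁻¹ * c * n = c)
    {g : Γ} (hg : g * c * g⁻¹ ∈ (P : Subgroup Γ)) : g * c * g⁻¹ = c := by
  have h := conj_fix_of_tame P hPc hN _ (zpowers c) rfl (mem_zpowers c) (zpowers_le.2 hc) g⁻¹ ?_
  · simpa using h
  · intro a ha
    obtain ⟨i, rfl⟩ := mem_zpowers_iff.1 ha
    rw [inv_inv, ← conj_zpow]
    exact zpow_mem hg i

/-- A central Sylow 2-subgroup of odd index has the elements of odd order as complement. -/
theorem exists_odd_complement {D : Subgroup Γ} {Z : Subgroup Γ} (hZD : Z ≤ D)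
    (hcen : D ≤ centralizer (Z : Set Γ)) (hZ : IsPGroup 2 Z) (hodd : ¬ 2 ∣ Z.relIndex D) :
    ∃ K : Subgroup D, K.Normal ∧ Disjoint K (Z.subgroupOf D) ∧ K ⊔ Z.subgroupOf D = ⊤ ∧
      ∀ d : D, Odd (orderOf d) → d ∈ K := by
  haveI : Fact (Nat.Prime 2) := ⟨Nat.prime_two⟩
  set Z' := Z.subgroupOf D with hZ'
  have hcom : ∀ z ∈ Z', ∀ d : D, d * z = z * d := fun z hz d =>
    Subtype.ext (mem_centralizer_iff.1 (hcen d.2) (z : Γ) (mem_subgroupOf.1 hz)).symm
  haveI : Z'.Normal := ⟨fun z hz d => by rwa [hcom z hz d, mul_inv_cancel_right]⟩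
  obtain ⟨j, hj⟩ := IsPGroup.iff_card.1 (hZ.comap_subtype (K := D))
  change Nat.card Z' = _ at hj
  have hcop : (Nat.card Z').Coprime Z'.index := by
    rw [hj]
    exact (Nat.prime_two.coprime_iff_not_dvd.2 hodd).pow_left j
  obtain ⟨K, hK⟩ := exists_right_complement'_of_coprime hcop
  have hKn : K.Normal := ⟨fun a ha d => by
    obtain ⟨⟨z, b⟩, rfl⟩ := hK.surjective d
    have e : ((z : D) * b) * a * ((z : D) * b)⁻¹ = (b : D) * a * (b : D)⁻¹ := by
      calc ((z : D) * b) * a * ((z : D) * b)⁻¹ = (z : D) * ((b : D) * a * (b : D)⁻¹) * (z : D)⁻¹ := by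
            group
        _ = _ := by rw [← hcom z z.2 _, mul_inv_cancel_right]
    show ((z : D) * b) * a * ((z : D) * b)⁻¹ ∈ K
    rw [e]
    exact mul_mem (mul_mem b.2 ha) (inv_mem b.2)⟩
  refine ⟨K, hKn, hK.disjoint.symm, by rw [sup_comm]; exact hK.sup_eq_top, fun d hd => ?_⟩
  rw [← QuotientGroup.eq_one_iff, ← orderOf_eq_one_iff]
  refine Nat.eq_one_of_dvd_coprimes ((Nat.coprime_two_right.2 hd).pow_right j)
    (orderOf_map_dvd (QuotientGroup.mk' K) d) ?_
  refine (_root_.orderOf_dvd_natCard _).trans ?_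
  rw [← index_eq_card, hK.index_eq_card, hj]

omit [Finite Γ] in
theorem commutator_mul_left (a b n : Γ) : ⁅a * b, n⁆ = a * ⁅b, n⁆ * a⁻¹ * ⁅a, n⁆ := by
  simp only [commutatorElement_def]; group

variable {G S W : Subgroup Γ}

/-- **Glauberman.** An involution in the derived group of a group of operators centralizing a
Sylow 2-subgroup of `G` centralizes `G`, when `O(G) = 1`. -/
theorem commute_of_mem_commutator [hGn : G.Normal]
    (hO : ∀ N : Subgroup Γ, N ≤ G → G ≤ normalizer (N : Set Γ) → Odd (Nat.card N) → N = ⊥)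
    (hSG : S ≤ G) (hS2 : IsPGroup 2 S) (hSi : ¬ 2 ∣ S.relIndex G) (hWS : W ≤ centralizer (S : Set Γ))
    {c : Γ} (hc : c ∈ ⁅W, W⁆) (hc2 : orderOf c = 2) : ∀ g ∈ G, Commute c g := by
  haveI : Fact (Nat.Prime 2) := ⟨Nat.prime_two⟩
  have hcW : c ∈ W := (commutator_le.2 fun a ha b hb => by
    rw [commutatorElement_def]
    exact mul_mem (mul_mem (mul_mem ha hb) (inv_mem ha)) (inv_mem hb)) hc
  -- work in `Γ₀ = G⟨c⟩`
  set Γ₀ := G ⊔ zpowers c with hΓ₀
  have hcΓ : c ∈ Γ₀ := mem_sup_right (mem_zpowers c)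
  have hdec : ∀ x ∈ Γ₀, ∃ g ∈ G, ∃ i : ℤ, x = g * c ^ i := by
    intro x hx
    obtain ⟨g, hg, y, hy, rfl⟩ := mem_sup_of_normal_left.1 hx
    obtain ⟨i, rfl⟩ := mem_zpowers_iff.1 hy
    exact ⟨g, hg, i, rfl⟩
  set c₀ : Γ₀ := ⟨c, hcΓ⟩ with hc₀
  set G₀ := G.subgroupOf Γ₀ with hG₀
  haveI : G₀.Normal := inferInstance
  set S₀ := S.subgroupOf Γ₀ with hS₀
  have hS₀G : S₀ ≤ G₀ := fun x hx => mem_subgroupOf.2 (hSG (mem_subgroupOf.1 hx))
  have hSc : ∀ s ∈ S₀, Commute s c₀ := fun s hs => Subtype.ext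
    (mem_centralizer_iff.1 (hWS hcW) (s : Γ) (mem_subgroupOf.1 hs))
  set P₀ := S₀ ⊔ zpowers c₀ with hP₀
  have hzp : IsPGroup 2 (zpowers c₀) :=
    IsPGroup.of_card (n := 1) (by rw [Nat.card_zpowers, orderOf_mk, hc2, pow_one])
  have hnorm : zpowers c₀ ≤ normalizer (S₀ : Set Γ₀) := zpowers_le_normalizer_of_commute hSc
  have hP2 : IsPGroup 2 P₀ := by
    rw [hP₀, sup_comm]
    exact hzp.to_sup_of_normal_right' (hS2.comap_subtype (K := Γ₀)) hnorm
  have htop : P₀ ⊔ G₀ = ⊤ := by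
    refine eq_top_iff.2 fun x _ => ?_
    obtain ⟨g, hg, i, e⟩ := hdec x x.2
    have hx : x = ⟨g, mem_sup_left hg⟩ * c₀ ^ i := Subtype.ext (by simpa using e)
    rw [hx]
    exact mul_mem (mem_sup_right (mem_subgroupOf.2 hg))
      (mem_sup_left (mem_sup_right (zpow_mem_zpowers _ _)))
  have hPi : ¬ 2 ∣ P₀.index := by
    have h1 : P₀.index = (P₀ ⊓ G₀).relIndex G₀ := by
      rw [inf_relIndex_right]
      have h2 : P₀.index * G₀.relIndex P₀ = G₀.index * P₀.relIndex G₀ := by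
        rw [mul_comm P₀.index, ← inf_relIndex_right, mul_comm G₀.index, ← inf_relIndex_right P₀,
          relIndex_mul_index inf_le_right, inf_comm, relIndex_mul_index inf_le_right]
      have h3 : G₀.relIndex P₀ = G₀.index := by
        rw [← relIndex_top_right, ← htop, relIndex_sup_right]
      rw [h3, mul_comm] at h2
      exact Nat.eq_of_mul_eq_mul_left (Nat.pos_of_ne_zero index_ne_zero_of_finite) h2
    rw [h1]
    intro hd
    have h4 : (P₀ ⊓ G₀).relIndex G₀ ∣ S₀.relIndex G₀ :=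
      relIndex_dvd_of_le_left G₀ (le_inf le_sup_left hS₀G)
    have h5 : S₀.relIndex G₀ = S.relIndex G := relIndex_subgroupOf le_sup_left
    exact hSi (h5 ▸ hd.trans h4)
  set P : Sylow 2 Γ₀ := hP2.toSylow hPi with hP
  have hPcoe : (P : Subgroup Γ₀) = P₀ := rfl
  have hcP : c₀ ∈ (P : Subgroup Γ₀) := mem_sup_right (mem_zpowers c₀)
  have hPc : (P : Subgroup Γ₀) ≤ centralizer ({c₀} : Set Γ₀) := by
    rw [hPcoe, hP₀]
    exact sup_le (fun s hs => mem_centralizer_singleton_iff.2 (hSc s hs).eq)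
      (zpowers_le.2 (mem_centralizer_singleton_iff.2 rfl))
  have hPS : ∀ x : Γ₀, x ∈ (P : Subgroup Γ₀) → (x : Γ) ∈ G → (x : Γ) ∈ S := by
    intro x hx hxG
    have h2 : IsPGroup 2 ((((P : Subgroup Γ₀) ⊓ G₀).map Γ₀.subtype)) :=
      (P.isPGroup'.to_le inf_le_left).map _
    have hSle : S ≤ ((P : Subgroup Γ₀) ⊓ G₀).map Γ₀.subtype := fun s hs =>
      ⟨⟨s, mem_sup_left (hSG hs)⟩, ⟨mem_sup_left (mem_subgroupOf.2 hs), mem_subgroupOf.2 (hSG hs)⟩, rfl⟩
    have hle : ((P : Subgroup Γ₀) ⊓ G₀).map Γ₀.subtype ≤ G := by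
      rintro _ ⟨y, hy, rfl⟩; exact hy.2
    have heq : ((P : Subgroup Γ₀) ⊓ G₀).map Γ₀.subtype = S := by
      refine le_antisymm ?_ hSle
      rw [← relIndex_eq_one]
      set T := ((P : Subgroup Γ₀) ⊓ G₀).map Γ₀.subtype
      obtain ⟨j, hj⟩ := IsPGroup.iff_card.1 h2
      obtain ⟨i, -, hi⟩ := (Nat.dvd_prime_pow Nat.prime_two).1
        (hj ▸ (relIndex_dvd_card S T : S.relIndex T ∣ Nat.card T))
      rcases Nat.eq_zero_or_pos i with rfl | hi0
      · simpa using hi
      · exfalso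
        refine hSi ((hi ▸ dvd_pow_self 2 hi0.ne').trans ?_)
        exact Dvd.intro _ (relIndex_mul_relIndex S T G hSle hle)
    exact heq ▸ ⟨x, ⟨hx, mem_subgroupOf.2 hxG⟩, rfl⟩
  -- `c` is weakly closed in `P`
  have hwc : ∀ g : Γ₀, g * c₀ * g⁻¹ ∈ (P : Subgroup Γ₀) → g * c₀ * g⁻¹ = c₀ := by
    refine fun g hg => eq_of_conj_mem P hcP hPc (fun Q hcE ht hcent n hn => ?_) hg
    set E := (P : Subgroup Γ₀) ⊓ (Q : Subgroup Γ₀) with hE
    obtain ⟨γ, hγ, i, e⟩ := hdec n n.2
    -- `R = E ∩ G`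
    set R := (E ⊓ G₀).map Γ₀.subtype with hR
    have hRS : R ≤ S := by
      rintro _ ⟨x, hx, rfl⟩
      exact hPS x hx.1.1 hx.2
    have hWR : ∀ w ∈ W, ∀ r ∈ R, Commute r w := fun w hw r hr =>
      mem_centralizer_iff.1 (hWS hw) r (hRS hr)
    set D := G ⊓ centralizer (R : Set Γ) with hD
    -- `C_P(E)` is a Sylow subgroup of the normal subgroup `C(E)` of `N(E)`
    set Z := R ⊓ centralizer (R : Set Γ) with hZ
    have hZD : Z ≤ D := le_inf (inf_le_left.trans (hRS.trans hSG)) inf_le_right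
    have hE' : ∀ x ∈ E, ∃ r ∈ R, ∃ j : ℤ, (x : Γ) = r * c ^ j := by
      intro x hx
      obtain ⟨g', hg', j, e'⟩ := hdec x x.2
      refine ⟨g', ⟨x * c₀ ^ (-j), ⟨mul_mem hx (zpow_mem hcE _), mem_subgroupOf.2 ?_⟩, ?_⟩, j, e'⟩
      · simp [e', hg', mul_assoc, hc₀]
      · simp [e', mul_assoc, hc₀]
    set N := normalizer (E : Set Γ₀) with hNdef
    set CE := centralizer (E : Set Γ₀) with hCE
    have hCEN : CE ≤ N := centralizer_le_normalizer _
    -- 2-subgroups of `C(E)` containing `C_P(E)` equal it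
    have hsyl : ∀ T : Subgroup Γ₀, T ≤ CE → IsPGroup 2 T → (P : Subgroup Γ₀) ⊓ CE ≤ T →
        T ≤ (P : Subgroup Γ₀) ⊓ CE := by
      intro T hT hT2 hle
      have hcop : ¬ 2 ∣ ((P : Subgroup Γ₀) ⊓ CE).relIndex CE := by
        let PN : Sylow 2 N := Sylow.ofCard _ (card_subgroupOf_eq P ht.1)
        haveI : (CE.subgroupOf N).Normal := normal_subgroupOf_of_le_normalizer (le_normalizer_cent E)
        have h1 := Transfer.not_dvd_relIndex_of_normal PN (CE.subgroupOf N)
        rw [inf_relIndex_right]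
        change ¬ 2 ∣ ((P : Subgroup Γ₀).subgroupOf N).relIndex (CE.subgroupOf N) at h1
        rwa [relIndex_subgroupOf hCEN] at h1
      rw [← relIndex_eq_one]
      obtain ⟨j, hj⟩ := IsPGroup.iff_card.1 hT2
      obtain ⟨l, -, hl⟩ := (Nat.dvd_prime_pow Nat.prime_two).1
        (hj ▸ (relIndex_dvd_card ((P : Subgroup Γ₀) ⊓ CE) T :
          ((P : Subgroup Γ₀) ⊓ CE).relIndex T ∣ Nat.card T))
      rcases Nat.eq_zero_or_pos l with rfl | hl0
      · simpa using hl
      · exfalso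
        exact hcop ((hl ▸ dvd_pow_self 2 hl0.ne').trans
          (Dvd.intro _ (relIndex_mul_relIndex _ T CE hle hT)))
    -- `Z` is a Sylow subgroup of `D`
    have hDodd : ¬ 2 ∣ Z.relIndex D := by
      intro hd
      have hZ2 : IsPGroup 2 (Z.subgroupOf D) :=
        (hS2.to_le (inf_le_left.trans hRS)).comap_subtype
      obtain ⟨X, hX⟩ := hZ2.exists_le_sylow
      -- `X` is larger than `Z`
      have hlt : Z.subgroupOf D < (X : Subgroup D) := by
        refine lt_of_le_of_ne hX fun he => X.not_dvd_index ?_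
        rw [← he]; exact hd
      -- move to `Γ`
      set X' := (X : Subgroup D).map D.subtype with hX'
      have hX'2 : IsPGroup 2 X' := X.isPGroup'.map _
      set Zc := Z ⊔ zpowers c with hZc
      have hcC : c ∈ centralizer (R : Set Γ) := mem_centralizer_iff.2 fun r hr => hWR c hcW r hr
      -- a 2-subgroup of `C(R)` containing `Z` and `c` properly
      set U := (G ⊔ zpowers c) ⊓ centralizer (R : Set Γ) with hU
      obtain ⟨Y, hY⟩ := (show IsPGroup 2 (Zc.subgroupOf U) by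
        refine IsPGroup.comap_subtype ?_
        rw [hZc, sup_comm]
        refine IsPGroup.to_sup_of_normal_right'
          (IsPGroup.of_card (n := 1) (by rw [Nat.card_zpowers, hc2, pow_one]))
          (hS2.to_le (inf_le_left.trans hRS))
          (zpowers_le_normalizer_of_commute (U := Z) fun z hz => hWR c hcW z hz.1)).exists_le_sylow
      set Y' := (Y : Subgroup U).map U.subtype with hY'
      have hY'2 : IsPGroup 2 Y' := Y.isPGroup'.map _
      have hZcU : Zc ≤ U := sup_le (hZD.trans (inf_le_inf_right _ le_sup_left))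
        (zpowers_le.2 ⟨mem_sup_right (mem_zpowers c), hcC⟩)
      have hZcY : Zc ≤ Y' := fun z hz => ⟨⟨z, hZcU hz⟩, hY (mem_subgroupOf.2 hz), rfl⟩
      have hne : Zc ≠ Y' := by
        intro he
        -- then `Zc ⊓ G = Z` would be Sylow in `D`
        have hYD : ¬ 2 ∣ (Zc.subgroupOf U).index := by
          have : Zc.subgroupOf U = (Y : Subgroup U) := by
            rw [he, hY', subgroupOf, comap_map_eq_self_of_injective U.subtype_injective]
          rw [this]; exact Y.not_dvd_index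
        haveI : (D.subgroupOf U).Normal := by
          refine normal_subgroupOf_of_le_normalizer ?_
          exact (le_inf (le_normalizer_of_normal.trans le_rfl) (inf_le_right.trans le_normalizer)).trans
            inf_normalizer_le_normalizer_inf
        have h1 := (Transfer.relIndex_dvd_index_of_normal_right (Zc.subgroupOf U) (D.subgroupOf U))
        rw [relIndex_subgroupOf (show D ≤ U from inf_le_inf_right _ le_sup_left)] at h1
        refine hYD (hd.trans (dvd_trans (dvd_of_eq ?_) h1))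
        rw [← inf_relIndex_right Zc]
        congr 1
        refine le_antisymm (le_inf le_sup_left hZD) ?_
        rintro z ⟨hz, hzD⟩
        obtain ⟨y, hy, w, hw, rfl⟩ : ∃ y ∈ Z, ∃ w ∈ zpowers c, y * w = z := by
          have : z ∈ Z ⊔ zpowers c := hz
          rw [← SetLike.mem_coe, coe_mul_of_right_le_normalizer_left _ _
            (zpowers_le_normalizer_of_commute (U := Z) fun z hz => hWR c hcW z hz.1)] at this
          exact this
        obtain ⟨j, rfl⟩ := mem_zpowers_iff.1 hw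
        have hwG : c ^ j ∈ G := by
          have h := mul_mem (inv_mem (mem_inf.1 (hZD hy)).1) (mem_inf.1 hzD).1
          rwa [inv_mul_cancel_left] at h
        refine mul_mem hy ⟨⟨c₀ ^ j, ⟨zpow_mem hcE j, mem_subgroupOf.2 (by simpa using hwG)⟩,
          by simp [hc₀]⟩, zpow_mem hcC j⟩
      obtain ⟨y, hyY, hyZ, hyN⟩ : ∃ y ∈ Y', y ∉ Zc ∧ y ∈ normalizer (Zc : Set Γ) := by
        obtain ⟨hle, y, hy, hyZ⟩ := SetLike.lt_iff_le_and_exists.1
          (Transfer.lt_inf_normalizer hY'2 (lt_of_le_of_ne hZcY hne))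
        exact ⟨y, hy.1, hyZ, hy.2⟩
      have hyU : y ∈ U := by
        obtain ⟨y', -, rfl⟩ := hyY; exact y'.2
      -- `y` normalises `E` and centralises `R`
      set y₀ : Γ₀ := ⟨y, hyU.1⟩ with hy₀
      have hyR : ∀ r ∈ R, y * r * y⁻¹ = r := fun r hr => by
        rw [← mem_centralizer_iff.1 hyU.2 r hr, mul_inv_cancel_right]
      have hRE : ∀ r, ∀ hr : r ∈ R, (⟨r, mem_sup_left (hSG (hRS hr))⟩ : Γ₀) ∈ E := by
        rintro _ ⟨x, hx, rfl⟩; exact hx.1
      have hycc : ∀ a : Γ, a ∈ Zc → ∀ ha : a ∈ Γ₀, (⟨a, ha⟩ : Γ₀) ∈ E := by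
        intro a ha haΓ
        have hle : Zc ≤ E.map Γ₀.subtype :=
          sup_le (fun z hz => ⟨_, hRE z hz.1, rfl⟩) (zpowers_le.2 ⟨c₀, hcE, rfl⟩)
        obtain ⟨b, hb, hb'⟩ := hle ha
        rwa [show (⟨a, haΓ⟩ : Γ₀) = b from Subtype.ext hb'.symm]
      have hyE : y₀ ∈ N := by
        rw [hNdef, mem_normalizer_iff_map_conj_eq]
        refine Subgroup.eq_of_le_of_card_ge ?_ (card_map_of_injective (MulAut.conj y₀).injective).ge
        rintro _ ⟨x, hx, rfl⟩
        obtain ⟨r, hr, j, e'⟩ := hE' x hx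
        have hc' : y * c * y⁻¹ ∈ Zc := (mem_normalizer_iff.1 hyN c).1 (mem_sup_right (mem_zpowers c))
        have hc'E := hycc _ hc' (mul_mem (mul_mem hyU.1 hcΓ) (inv_mem hyU.1))
        have : MulAut.conj y₀ x = ⟨r, mem_sup_left (hSG (hRS hr))⟩ * (⟨y * c * y⁻¹, mul_mem (mul_mem hyU.1 hcΓ) (inv_mem hyU.1)⟩ : Γ₀) ^ j := by
          refine Subtype.ext ?_
          simp only [MulAut.conj_apply, Subgroup.coe_mul, InvMemClass.coe_inv, SubgroupClass.coe_zpow,
            conj_zpow, e', hy₀]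
          conv_rhs => rw [← hyR r hr]
          group
        show (MulAut.conj y₀) x ∈ E
        rw [this]
        exact mul_mem (hRE r hr) (zpow_mem hc'E j)
      -- inside `N`, the 2-element `y` of `C(R)` lies in `P ⊓ C(E)`, a subgroup of `E`
      set CR := (centralizer (R : Set Γ)).subgroupOf Γ₀ with hCR
      have hsyl2 : ¬ 2 ∣ ((P : Subgroup Γ₀) ⊓ CR).relIndex (N ⊓ CR) := by
        let PN : Sylow 2 N := Sylow.ofCard _ (card_subgroupOf_eq P ht.1)
        haveI hnor : (CR.subgroupOf N).Normal := by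
          refine ⟨fun a ha b => mem_subgroupOf.2 (mem_subgroupOf.2 (mem_centralizer_iff.2 fun r hr => ?_))⟩
          have ha' := mem_centralizer_iff.1 (mem_subgroupOf.1 (mem_subgroupOf.1 ha))
          have hb : ((b : Γ₀) : Γ)⁻¹ * r * ((b : Γ₀) : Γ) ∈ R := by
            refine ⟨(b : Γ₀)⁻¹ * ⟨r, mem_sup_left (hSG (hRS hr))⟩ * (b : Γ₀),
              ⟨(mem_normalizer_iff''.1 b.2 _).1 (hRE r hr), ?_⟩, rfl⟩
            exact (inferInstance : G₀.Normal).conj_mem' _ (mem_subgroupOf.2 (hSG (hRS hr))) _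
          have h1 := ha' _ hb
          simp only [Subgroup.coe_mul, InvMemClass.coe_inv]
          calc r * (((b : Γ₀) : Γ) * ((a : Γ₀) : Γ) * ((b : Γ₀) : Γ)⁻¹)
              = ((b : Γ₀) : Γ) * ((((b : Γ₀) : Γ)⁻¹ * r * ((b : Γ₀) : Γ)) * ((a : Γ₀) : Γ)) * ((b : Γ₀) : Γ)⁻¹ := by
                group
            _ = _ := by rw [h1]; group
        have h1 := Transfer.not_dvd_relIndex_of_normal PN (CR.subgroupOf N)
        change ¬ 2 ∣ ((P : Subgroup Γ₀).subgroupOf N).relIndex (CR.subgroupOf N) at h1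
        have e1 : (CR.subgroupOf N) = (N ⊓ CR).subgroupOf N := by
          rw [inf_comm, inf_subgroupOf_right]
        rw [e1, relIndex_subgroupOf inf_le_left] at h1
        intro hd
        refine h1 ?_
        have e2 : (P : Subgroup Γ₀) ⊓ CR ⊓ (N ⊓ CR) = (P : Subgroup Γ₀) ⊓ (N ⊓ CR) := by
          ext z; simp only [mem_inf]; tauto
        rwa [← inf_relIndex_right, e2, inf_relIndex_right] at hd
      -- the 2-group generated by `P ∩ C(R) ∩ N` and `y`
      have hPCR : ((P : Subgroup Γ₀) ⊓ CR ⊓ N).map Γ₀.subtype ≤ Zc := by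
        rintro _ ⟨x, ⟨⟨hxP, hxC⟩, hxN⟩, rfl⟩
        have hxCE : x ∈ CE := mem_centralizer_iff.2 fun a ha => Subtype.ext (by
          obtain ⟨r, hr, j, e'⟩ := hE' a ha
          have hcx : Commute c (x : Γ) :=
            (congrArg Subtype.val (mem_centralizer_singleton_iff.1 (hPc hxP))).symm
          simp only [Subgroup.coe_mul, e']
          exact ((show Commute r (x : Γ) from mem_centralizer_iff.1 hxC r hr).mul_left
            (hcx.zpow_left j)).eq)
        obtain ⟨r, hr, j, e'⟩ := hE' x (hcent ⟨hxP, hxCE⟩)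
        have hrC : r ∈ centralizer (R : Set Γ) := by
          rw [show r = (x : Γ) * (c ^ j)⁻¹ by rw [e', mul_inv_cancel_right]]
          exact mul_mem hxC (inv_mem (zpow_mem hcC j))
        show (x : Γ) ∈ Zc
        rw [e']
        exact mul_mem_sup ⟨hr, hrC⟩ (zpow_mem_zpowers c j)
      set T := Zc ⊔ zpowers y with hT
      have hTY : T ≤ Y' := sup_le hZcY (zpowers_le.2 hyY)
      have hTU : T ≤ U := hTY.trans (map_subtype_le _)
      have hTlt : Zc < T := lt_of_le_of_ne le_sup_left fun he => hyZ (he ▸ mem_sup_right (mem_zpowers y))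
      set T₀ := T.subgroupOf Γ₀ with hT₀
      have hT2 : IsPGroup 2 T₀ := (hY'2.to_le hTY).comap_subtype
      have hT₀N : T₀ ≤ N ⊓ CR := by
        intro x hx
        have hxT : (x : Γ) ∈ T := hx
        refine ⟨?_, mem_subgroupOf.2 (hTU hxT).2⟩
        have hle : T ≤ N.map Γ₀.subtype := sup_le
          (fun z hz => ⟨⟨z, hZcU hz |>.1⟩, le_normalizer (hycc z hz _), rfl⟩)
          (zpowers_le.2 ⟨y₀, hyE, rfl⟩)
        obtain ⟨b, hb, hb'⟩ := hle hxT
        rwa [show x = b from Subtype.ext hb'.symm]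
      have hQle : (P : Subgroup Γ₀) ⊓ CR ⊓ N ≤ T₀ := fun x hx =>
        hTlt.le (hPCR ⟨x, hx, rfl⟩)
      obtain ⟨j, hj⟩ := IsPGroup.iff_card.1 hT2
      obtain ⟨l, -, hl⟩ := (Nat.dvd_prime_pow Nat.prime_two).1
        (hj ▸ (relIndex_dvd_card ((P : Subgroup Γ₀) ⊓ CR ⊓ N) T₀ :
          ((P : Subgroup Γ₀) ⊓ CR ⊓ N).relIndex T₀ ∣ Nat.card T₀))
      rcases Nat.eq_zero_or_pos l with rfl | hl0
      · have hy0 : y₀ ∈ (P : Subgroup Γ₀) ⊓ CR ⊓ N :=
          relIndex_eq_one.1 (by simpa using hl) (show (y₀ : Γ) ∈ T from mem_sup_right (mem_zpowers y))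
        exact hyZ (hPCR ⟨y₀, hy0, rfl⟩)
      · refine hsyl2 ((hl ▸ dvd_pow_self 2 hl0.ne').trans ?_)
        have h6 : ((P : Subgroup Γ₀) ⊓ CR).relIndex (N ⊓ CR) =
            ((P : Subgroup Γ₀) ⊓ CR ⊓ N).relIndex (N ⊓ CR) := by
          rw [← inf_relIndex_right]
          congr 1
          ext z; simp only [mem_inf]; tauto
        rw [h6]
        exact Dvd.intro _ (relIndex_mul_relIndex _ T₀ (N ⊓ CR) hQle hT₀N)
    obtain ⟨K, hKn, hKZ, hKtop, hKodd⟩ := exists_odd_complement hZD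
      (le_centralizer_iff.1 fun z hz => mem_centralizer_iff.2 fun d hd =>
        (mem_centralizer_iff.1 hd.2 z hz.1).symm)
      (hS2.to_le (inf_le_left.trans hRS)) hDodd
    haveI := hKn
    -- the commutators with `γ`
    have hγN : ∀ r ∈ R, γ * r * γ⁻¹ ∈ R ∧ γ⁻¹ * r * γ ∈ R := by
      intro r hr
      set γ₀ : Γ₀ := ⟨γ, mem_sup_left hγ⟩
      have hγ₀ : γ₀ ∈ N := by
        have hn' : n = γ₀ * c₀ ^ i := Subtype.ext (by simpa [γ₀] using e)
        rw [show γ₀ = n * (c₀ ^ i)⁻¹ by rw [hn', mul_inv_cancel_right]]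
        exact mul_mem hn (inv_mem (zpow_mem (le_normalizer hcE) i))
      obtain ⟨x, hx, rfl⟩ := hr
      exact ⟨⟨γ₀ * x * γ₀⁻¹, ⟨(mem_normalizer_iff.1 hγ₀ x).1 hx.1,
          (inferInstance : G₀.Normal).conj_mem x hx.2 γ₀⟩, rfl⟩,
        ⟨γ₀⁻¹ * x * γ₀, ⟨(mem_normalizer_iff''.1 hγ₀ x).1 hx.1,
          (inferInstance : G₀.Normal).conj_mem' x hx.2 γ₀⟩, rfl⟩⟩
    have hD' : ∀ w ∈ W, ⁅w, γ⁆ ∈ D := by
      intro w hw
      refine mem_inf.2 ⟨mul_mem (hGn.conj_mem γ hγ w) (inv_mem hγ), mem_centralizer_iff.2 fun r hr => ?_⟩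
      have h1 := (hWR w hw _ (hγN r hr).1).eq
      have h2 := (hWR w hw _ (hγN r hr).2).eq
      have h3 := (hWR w hw r hr).eq
      have key : ⁅w, γ⁆ * r * ⁅w, γ⁆⁻¹ = r := by
        calc ⁅w, γ⁆ * r * ⁅w, γ⁆⁻¹ = w * γ * w⁻¹ * ((γ⁻¹ * r * γ) * w) * γ⁻¹ * w⁻¹ := by
              rw [commutatorElement_def]; group
          _ = w * γ * w⁻¹ * (w * (γ⁻¹ * r * γ)) * γ⁻¹ * w⁻¹ := by rw [h2]
          _ = w * r * w⁻¹ := by group
          _ = r := by rw [← h3, mul_inv_cancel_right]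
      calc r * ⁅w, γ⁆ = ⁅w, γ⁆ * r * ⁅w, γ⁆⁻¹ * ⁅w, γ⁆ := by rw [key]
        _ = _ := by group
    -- conjugation by `W` is trivial modulo `K`
    have hmod : ∀ w ∈ W, ∀ d : D, ∀ hd : w * (d : Γ) * w⁻¹ ∈ D,
        QuotientGroup.mk' K ⟨_, hd⟩ = QuotientGroup.mk' K d := by
      intro w hw d hd
      obtain ⟨k, hk, z, hz, rfl⟩ := mem_sup_of_normal_left.1 (hKtop ▸ mem_top d)
      have hzw : w * (z : Γ) * w⁻¹ = z := by
        rw [← (hWR w hw z (mem_subgroupOf.1 hz).1).eq, mul_inv_cancel_right]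
      have hkD : w * (k : Γ) * w⁻¹ ∈ D := by
        have : w * (k : Γ) * w⁻¹ = w * ((k * z : D) : Γ) * w⁻¹ * (w * (z : Γ) * w⁻¹)⁻¹ := by
          simp only [Subgroup.coe_mul]; group
        rw [this, hzw]
        exact mul_mem hd (inv_mem z.2)
      have hkK : (⟨_, hkD⟩ : D) ∈ K := hKodd _ (by
        rw [orderOf_mk, show w * (k : Γ) * w⁻¹ = MulAut.conj w (k : Γ) from rfl,
          MulEquiv.orderOf_eq, Subgroup.orderOf_coe]
        have hKc : Odd (Nat.card K) := by
          have hcompl : IsComplement' K (Z.subgroupOf D) :=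
            isComplement'_of_disjoint_and_mul_eq_univ hKZ (by rw [← normal_mul, hKtop]; rfl)
          rw [← hcompl.index_eq_card]
          exact Nat.not_even_iff_odd.1 fun he => hDodd (even_iff_two_dvd.1 he)
        exact hKc.of_dvd_nat (orderOf_dvd_natCard (⟨k, hk⟩ : K) |> fun h => by simpa using h))
      have he : (⟨_, hd⟩ : D) = ⟨_, hkD⟩ * z := Subtype.ext (by
        simp only [Subgroup.coe_mul]
        conv_rhs => rw [← hzw]
        group)
      have h1 : QuotientGroup.mk' K (⟨_, hkD⟩ : D) = 1 := (QuotientGroup.eq_one_iff _).2 hkK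
      have h2 : QuotientGroup.mk' K k = 1 := (QuotientGroup.eq_one_iff _).2 hk
      rw [he, map_mul, map_mul, h1, h2]
    have habel : ∀ a b : D ⧸ K, a * b = b * a := by
      intro a b
      obtain ⟨a, rfl⟩ := QuotientGroup.mk'_surjective K a
      obtain ⟨b, rfl⟩ := QuotientGroup.mk'_surjective K b
      obtain ⟨k, hk, z, hz, rfl⟩ := mem_sup_of_normal_left.1 (hKtop ▸ mem_top a)
      have h2 : QuotientGroup.mk' K k = 1 := (QuotientGroup.eq_one_iff _).2 hk
      rw [map_mul, h2, one_mul, ← map_mul, ← map_mul]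
      exact congrArg _ (Subtype.ext (mem_centralizer_iff.1 b.2.2 (z : Γ) (mem_subgroupOf.1 hz).1))
    let F : W →* D ⧸ K :=
      { toFun := fun w => QuotientGroup.mk' K ⟨⁅(w : Γ), γ⁆, hD' w w.2⟩
        map_one' := by
          rw [← map_one (QuotientGroup.mk' K)]
          exact congrArg _ (Subtype.ext (by simp))
        map_mul' := fun a b => by
          have hconj : (a : Γ) * ⁅(b : Γ), γ⁆ * (a : Γ)⁻¹ ∈ D := by
            have : (a : Γ) * ⁅(b : Γ), γ⁆ * (a : Γ)⁻¹ = ⁅(a : Γ) * b, γ⁆ * ⁅(a : Γ), γ⁆⁻¹ := by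
              rw [commutator_mul_left, mul_inv_cancel_right]
            rw [this]
            exact mul_mem (hD' _ (mul_mem a.2 b.2)) (inv_mem (hD' a a.2))
          rw [habel, ← hmod a a.2 ⟨_, hD' b b.2⟩ hconj, ← map_mul]
          exact congrArg _ (Subtype.ext (by simp [commutator_mul_left])) }
    have hker : ⁅W, W⁆ ≤ F.ker.map W.subtype := by
      refine commutator_le.2 fun a ha b hb => ⟨⁅(⟨a, ha⟩ : W), (⟨b, hb⟩ : W)⁆, ?_, rfl⟩
      rw [SetLike.mem_coe, MonoidHom.mem_ker, map_commutatorElement, commutatorElement_eq_one_iff_mul_comm]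
      exact habel _ _
    obtain ⟨w, hw, hwc⟩ := hker hc
    have hK1 : (⟨⁅c, γ⁆, hD' c hcW⟩ : D) ∈ K := by
      rw [← QuotientGroup.eq_one_iff]
      have : F w = 1 := hw
      rw [← this]
      refine congrArg _ (Subtype.ext ?_)
      simp only [← hwc]; rfl
    -- the commutator lies in `E`
    have hcom : (⟨⁅c, γ⁆, hD' c hcW⟩ : D) ∈ Z.subgroupOf D := by
      refine mem_subgroupOf.2 ⟨?_, (hD' c hcW).2⟩
      set γ₀ : Γ₀ := ⟨γ, mem_sup_left hγ⟩
      have hγ₀ : γ₀ ∈ N := by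
        have hn' : n = γ₀ * c₀ ^ i := Subtype.ext (by simpa [γ₀] using e)
        rw [show γ₀ = n * (c₀ ^ i)⁻¹ by rw [hn', mul_inv_cancel_right]]
        exact mul_mem hn (inv_mem (zpow_mem (le_normalizer hcE) i))
      refine ⟨c₀ * (γ₀ * c₀⁻¹ * γ₀⁻¹), ⟨mul_mem hcE ((mem_normalizer_iff.1 hγ₀ _).1 (inv_mem hcE)),
        mem_subgroupOf.2 ?_⟩, by simp [commutatorElement_def, hc₀, γ₀, mul_assoc]⟩
      have : ((c₀ * (γ₀ * c₀⁻¹ * γ₀⁻¹) : Γ₀) : Γ) = ⁅c, γ⁆ := by
        simp [commutatorElement_def, hc₀, γ₀, mul_assoc]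
      rw [this]
      exact (hD' c hcW).1
    have h1 : ⁅c, γ⁆ = 1 := congrArg Subtype.val (disjoint_def.1 hKZ hK1 hcom)
    rw [commutatorElement_eq_one_iff_mul_comm] at h1
    refine Subtype.ext ?_
    simp only [Subgroup.coe_mul, InvMemClass.coe_inv, e, hc₀]
    rw [mul_inv_rev, show (c ^ i)⁻¹ * γ⁻¹ * c * (γ * c ^ i) = (c ^ i)⁻¹ * (γ⁻¹ * (c * γ)) * c ^ i by group, h1]
    group
  -- Z*
  obtain ⟨N, hN, hNodd, hcomm⟩ := CfsgLib.ZStar.exists_oddNormal_of_sylow P
    (u := c₀) (by rw [hc₀, orderOf_mk, hc2]) hcP hwc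
  intro g hg
  set g₀ : Γ₀ := ⟨g, mem_sup_left hg⟩
  have hmem : c₀ * g₀ * c₀⁻¹ * g₀⁻¹ ∈ N ⊓ G₀ :=
    mem_inf.2 ⟨hcomm g₀, mul_mem ((inferInstance : G₀.Normal).conj_mem g₀ (mem_subgroupOf.2 hg) c₀)
      (inv_mem (mem_subgroupOf.2 hg))⟩
  have hbot : (N ⊓ G₀).map Γ₀.subtype = ⊥ := by
    haveI : (N ⊓ G₀).Normal := inferInstance
    refine hO _ (by rintro _ ⟨x, hx, rfl⟩; exact hx.2) (fun a ha => ?_) ?_
    · have := mem_map_of_mem Γ₀.subtype (show (⟨a, mem_sup_left ha⟩ : Γ₀) ∈ normalizer ((N ⊓ G₀ : Subgroup Γ₀) : Set Γ₀) from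
        (normalizer_eq_top (H := N ⊓ G₀)).symm ▸ mem_top _)
      exact le_normalizer_map Γ₀.subtype this
    · rw [card_map_of_injective Γ₀.subtype_injective]
      exact hNodd.of_dvd_nat (card_dvd_of_le inf_le_left)
  have h1 : ((c₀ * g₀ * c₀⁻¹ * g₀⁻¹ : Γ₀) : Γ) ∈ (⊥ : Subgroup Γ) := hbot ▸ ⟨_, hmem, rfl⟩
  rw [mem_bot] at h1
  simp only [Subgroup.coe_mul, InvMemClass.coe_inv, g₀, hc₀] at h1
  rw [mul_inv_eq_one, mul_inv_eq_iff_eq_mul] at h1
  exact h1

end CfsgLib.SylowFixing
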