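import Cfsg.Agent.SylowFixing.Core

/-!
# Derived groups of operators fixing a Sylow 2-subgroup

`commute_of_pow_two_pow`: if `O(G) = 1` and `W` centralizes a Sylow 2-subgroup of `G`, every
2-element of `⁅W, W⁆` centralizes `G`; so `⁅W, W⁆` acts on `G` as a group of odd order.
-/

set_option autoImplicit false
set_option linter.style.haveILetI false

namespace CfsgLib.SylowFixing

open Subgroup
open scoped commutatorElement

universe u

variable {Γ : Type u} [Group Γ] [Finite Γ] {G S W : Subgroup Γ}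

/-- The centre of `G` is a 2-group when `O(G) = 1`. -/
theorem isPGroup_inf_centralizer
    (hO : ∀ N : Subgroup Γ, N ≤ G → G ≤ normalizer (N : Set Γ) → Odd (Nat.card N) → N = ⊥) :
    IsPGroup 2 (G ⊓ centralizer (G : Set Γ) : Subgroup Γ) := by
  rintro ⟨z, hzG, hzC⟩
  obtain ⟨a, m, hm, hzm⟩ :=
    Nat.exists_eq_pow_mul_and_not_dvd (orderOf_pos z).ne' 2 (by norm_num)
  refine ⟨a, Subtype.ext ?_⟩
  simp only [SubmonoidClass.coe_pow, OneMemClass.coe_one]
  have h : zpowers (z ^ 2 ^ a) = ⊥ := by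
    refine hO _ (zpowers_le.2 (pow_mem hzG _)) ((le_centralizer_iff.1 ?_).trans (centralizer_le_normalizer _)) ?_
    · exact zpowers_le.2 (pow_mem hzC _)
    · rw [Nat.card_zpowers, orderOf_pow, hzm, Nat.gcd_eq_right (Dvd.intro m rfl),
        Nat.mul_div_cancel_left _ (pow_pos (by norm_num : 0 < 2) a)]
      exact Nat.not_even_iff_odd.1 fun he => hm (even_iff_two_dvd.1 he)
  exact mem_bot.1 (h ▸ mem_zpowers _)

omit [Finite Γ] in
theorem relIndex_map_dvd {Δ : Type*} [Group Δ] (f : Γ →* Δ) (A B : Subgroup Γ) :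
    (A.map f).relIndex (B.map f) ∣ A.relIndex B := by
  refine (index_dvd_of_le (H := (A.subgroupOf B).map (f.subgroupMap B)) ?_).trans
    (index_map_dvd _ (f.subgroupMap_surjective B))
  rintro _ ⟨x, hx, rfl⟩
  exact mem_subgroupOf.2 (mem_map_of_mem f (mem_subgroupOf.1 hx))

/-- A 2-element of `⁅W, W⁆` centralizes `G` if its square does. -/
theorem commute_of_sq [hGn : G.Normal]
    (hO : ∀ N : Subgroup Γ, N ≤ G → G ≤ normalizer (N : Set Γ) → Odd (Nat.card N) → N = ⊥)
    (hSG : S ≤ G) (hS2 : IsPGroup 2 S) (hSi : ¬ 2 ∣ S.relIndex G) (hWS : W ≤ centralizer (S : Set Γ))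
    {c : Γ} (hc : c ∈ ⁅W, W⁆) (hsq : ∀ g ∈ G, Commute (c ^ 2) g) : ∀ g ∈ G, Commute c g := by
  haveI : Fact (Nat.Prime 2) := ⟨Nat.prime_two⟩
  set C := centralizer (G : Set Γ) with hC
  haveI : C.Normal := inferInstance
  set f := QuotientGroup.mk' C with hf
  haveI : (G.map f).Normal := hGn.map f (QuotientGroup.mk'_surjective C)
  have hker : ∀ x : Γ, f x = 1 ↔ x ∈ C := fun x => QuotientGroup.eq_one_iff x
  -- the image of `G` has trivial odd core
  have hO' : ∀ N : Subgroup (Γ ⧸ C), N ≤ G.map f → G.map f ≤ normalizer (N : Set (Γ ⧸ C)) →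
      Odd (Nat.card N) → N = ⊥ := by
    intro N hN hGN hNodd
    set M := N.comap f ⊓ G with hM
    set Z := G ⊓ C with hZ
    have hZM : Z ≤ M := le_inf (fun z hz => mem_comap.2 (by rw [(hker z).2 hz.2]; exact one_mem _))
      inf_le_left
    have hodd : ¬ 2 ∣ Z.relIndex M := by
      have h1 : Z.relIndex M = Nat.card (M.map f) := by
        rw [← relIndex_ker, hf, QuotientGroup.ker_mk', hZ, ← inf_relIndex_right C,
          ← inf_relIndex_right (G ⊓ C)]
        congr 1
        ext x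
        simp only [mem_inf, hM]
        tauto
      rw [h1]
      intro h2
      refine Nat.not_even_iff_odd.2 hNodd (even_iff_two_dvd.2 (h2.trans (card_dvd_of_le ?_)))
      rintro _ ⟨x, hx, rfl⟩
      exact hx.1
    have hMG : M ≤ G := inf_le_right
    obtain ⟨K, hKn, hKZ, hKtop, hKodd⟩ := exists_odd_complement hZM
      ((hMG.trans (le_centralizer_iff.1 (inf_le_right : Z ≤ C))))
      (isPGroup_inf_centralizer hO) hodd
    have hGM : ∀ g ∈ G, ∀ x ∈ M, g * x * g⁻¹ ∈ M := by
      intro g hg x hx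
      refine mem_inf.2 ⟨mem_comap.2 ?_, mul_mem (mul_mem hg hx.2) (inv_mem hg)⟩
      rw [map_mul, map_mul, map_inv]
      exact (mem_normalizer_iff.1 (hGN (mem_map_of_mem f hg)) _).1 hx.1
    have hKc : Odd (Nat.card K) := by
      have hcompl : IsComplement' K (Z.subgroupOf M) :=
        isComplement'_of_disjoint_and_mul_eq_univ hKZ (by rw [← normal_mul, hKtop]; rfl)
      rw [← hcompl.index_eq_card]
      exact Nat.not_even_iff_odd.1 fun he => hodd (even_iff_two_dvd.1 he)
    have hK1 : K.map M.subtype = ⊥ := by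
      refine hO _ ((map_subtype_le K).trans hMG) (fun g hg => ?_) (by
        rwa [card_map_of_injective M.subtype_injective])
      have key : ∀ g ∈ G, ∀ x ∈ K.map M.subtype, g * x * g⁻¹ ∈ K.map M.subtype := by
        rintro g hg _ ⟨x, hx, rfl⟩
        refine ⟨⟨_, hGM g hg x x.2⟩, hKodd _ ?_, rfl⟩
        rw [orderOf_mk, show g * (x : Γ) * g⁻¹ = MulAut.conj g (x : Γ) from rfl, MulEquiv.orderOf_eq,
          Subgroup.orderOf_coe]
        exact hKc.of_dvd_nat (K.orderOf_dvd_natCard hx)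
      refine mem_normalizer_iff.2 fun x => ⟨key g hg x, fun h => ?_⟩
      simpa [mul_assoc] using key g⁻¹ (inv_mem hg) _ h
    refine eq_bot_iff.2 fun y hy => ?_
    obtain ⟨x, hx, rfl⟩ := hN hy
    have hxM : x ∈ M := ⟨hy, hx⟩
    rw [map_eq_bot_iff_of_injective _ M.subtype_injective] at hK1
    rw [hK1, bot_sup_eq] at hKtop
    exact mem_bot.2 ((hker x).2
      (mem_inf.1 (mem_subgroupOf.1 (hKtop.ge (mem_top (⟨x, hxM⟩ : M))))).2)
  have hWS' : W.map f ≤ centralizer ((S.map f : Subgroup (Γ ⧸ C)) : Set (Γ ⧸ C)) := by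
    rintro _ ⟨w, hw, rfl⟩
    refine mem_centralizer_iff.2 ?_
    rintro _ ⟨s, hs, rfl⟩
    rw [← map_mul, ← map_mul, mem_centralizer_iff.1 (hWS hw) s hs]
  -- the image of `c` centralizes the image of `G`
  have hcG : ∀ g ∈ G, ⁅c, g⁆ ∈ C := by
    intro g hg
    rw [← hker, map_commutatorElement, commutatorElement_eq_one_iff_commute]
    by_cases h1 : f c = 1
    · rw [h1]; exact Commute.one_left _
    refine commute_of_mem_commutator (Γ := Γ ⧸ C) (S := S.map f) (W := W.map f) hO' (map_mono hSG)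
      (hS2.map f) (fun h => hSi (h.trans (relIndex_map_dvd f S G))) hWS' ?_ ?_ _
      (mem_map_of_mem f hg)
    · rw [← map_commutator]; exact mem_map_of_mem f hc
    · refine orderOf_eq_prime ?_ h1
      rw [← map_pow, hker, hC, mem_centralizer_iff]
      exact fun g hg => (hsq g hg).eq.symm
  -- a homomorphism of `G` into its centre, trivial on `S`
  have hZ2 := isPGroup_inf_centralizer hO
  let φ : G →* (G ⊓ C : Subgroup Γ) :=
    { toFun := fun g => ⟨⁅c, (g : Γ)⁆, mem_inf.2 ⟨mul_mem (hGn.conj_mem g g.2 c) (inv_mem g.2), hcG g g.2⟩⟩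
      map_one' := Subtype.ext (by simp)
      map_mul' := fun a b => Subtype.ext (by
        have h := mem_centralizer_iff.1 (hcG b b.2) (a : Γ) a.2
        simp only [Subgroup.coe_mul]
        calc ⁅c, (a : Γ) * (b : Γ)⁆ = ⁅c, (a : Γ)⁆ * ((a : Γ) * ⁅c, (b : Γ)⁆) * (a : Γ)⁻¹ := by
              simp only [commutatorElement_def]; group
          _ = _ := by rw [h]; group) }
  have hS1 : S.subgroupOf G ≤ φ.ker := fun s hs => by
    refine Subtype.ext ?_
    show ⁅c, (s : Γ)⁆ = 1
    have hcW : c ∈ W := (commutator_le.2 fun a ha b hb => by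
      rw [commutatorElement_def]
      exact mul_mem (mul_mem (mul_mem ha hb) (inv_mem ha)) (inv_mem hb)) hc
    rw [commutatorElement_eq_one_iff_commute]
    exact (mem_centralizer_iff.1 (hWS hcW) _ (mem_subgroupOf.1 hs)).symm
  have hr : φ.range = ⊥ := by
    obtain ⟨j, hj⟩ := IsPGroup.iff_card.1 (hZ2.to_subgroup φ.range)
    rcases Nat.eq_zero_or_pos j with rfl | hj0
    · exact card_eq_one.1 (by simpa using hj)
    · exfalso
      refine hSi ((dvd_pow_self 2 hj0.ne').trans ?_)
      rw [← hj, ← index_ker]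
      exact index_dvd_of_le hS1
  intro g hg
  have h := MonoidHom.range_eq_bot_iff.1 hr
  have := congrArg Subtype.val (DFunLike.congr_fun h ⟨g, hg⟩)
  exact commutatorElement_eq_one_iff_commute.1 this

/-- Every 2-element of `⁅W, W⁆` centralizes `G`. -/
theorem commute_of_pow_two_pow [hGn : G.Normal]
    (hO : ∀ N : Subgroup Γ, N ≤ G → G ≤ normalizer (N : Set Γ) → Odd (Nat.card N) → N = ⊥)
    (hSG : S ≤ G) (hS2 : IsPGroup 2 S) (hSi : ¬ 2 ∣ S.relIndex G) (hWS : W ≤ centralizer (S : Set Γ)) :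
    ∀ (m : ℕ) (c : Γ), c ∈ ⁅W, W⁆ → c ^ 2 ^ m = 1 → ∀ g ∈ G, Commute c g := by
  intro m
  induction m with
  | zero =>
    intro c _ h g _
    rw [pow_zero, pow_one] at h
    rw [h]; exact Commute.one_left _
  | succ m ih =>
    intro c hc h
    exact commute_of_sq hO hSG hS2 hSi hWS hc (ih (c ^ 2) (pow_mem hc 2) (by
      rw [← pow_mul, ← pow_succ', h]))

end CfsgLib.SylowFixing
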